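import Cfsg.Agent.H490.G2Aut

/-!
# A Steinberg pair for `G₂(2 ^ k)`, twisted by a field automorphism (helper490)

* `top_of_short` : in characteristic two a subgroup containing a short root group, invariant under
  `(Coxeter element) * (field automorphism)`, is the whole group;
* `trick` : the pair `z h, u n Φ` in a bigger group.
-/

set_option autoImplicit false

namespace Cfsg.Agent.H490.G2

open scoped Pointwise
open Cfsg Cfsg.Lie Cfsg.Agent.ChevalleyStructure.Elts Cfsg.Agent.Schreier.ChevLocal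
open Cfsg.Agent.H70.ChevFix Cfsg.Agent.H70.ChevField Cfsg.Agent.H70.OutCount
open Cfsg.Agent.H135.TwoG Cfsg.Agent.ChevalleyStructure.W0Small

universe u

variable {F : Type u} [Field F]

/-- the action of the Coxeter element on the roots -/
abbrev W (s : ℕ) : ℕ := wT tabG2 [0, 1] s

/-- the Coxeter element -/
def nw (F : Type u) [Field F] : K F := ⟨wG hD F [0, 1], wG_mem_group hD _⟩

theorem nw_conj {r : ℕ} (hr : r < 12) : ∃ c : F, c ≠ 0 ∧ ∀ t : F, nw F * xe hD r t * (nw F)⁻¹ = xe hD (W r) (c * t) := by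
  obtain ⟨η, hη, h⟩ := wG_conj (F := F) hD (l := [0, 1]) (by decide) hr
  refine ⟨η, ?_, fun t => ?_⟩
  · rcases hη with rfl | rfl
    · exact one_ne_zero
    · exact neg_ne_zero.2 one_ne_zero
  · have e : W r = wact chevG2 [0, 1] r := wT_eq hD tabG2_ok (by decide) r hr
    rw [e]
    exact Subtype.ext (h t)

theorem comm_short [CharP F 2] {M : Subgroup (K F)} (h2 : ∀ t : F, xe hD 2 t ∈ M) (h3 : ∀ t : F, xe hD 3 t ∈ M) (t : F) :
    xe hD 0 t ∈ M := by
  have m2 : xG hD 2 (1 : F) ∈ M.map (chevG2.group F).subtype := ⟨_, h2 1, rfl⟩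
  have m3 : xG hD 3 t ∈ M.map (chevG2.group F).subtype := ⟨_, h3 t, rfl⟩
  have h := comm_mem (F := F) hD (M := M.map (chevG2.group F).subtype) (r := 2) (s := 3) (by decide) (by decide)
    (by decide) (by decide +kernel) m2 m3
  have hf : (chevG2.commTerms 2 3).filter (fun c => !(fun _ : ℕ => false) c.1) = [(0, 3, 1, 1)] := by decide +kernel
  have h4 := mem_of_filter hD (M := M.map (chevG2.group F).subtype) (P := fun _ => false) (by simp)
    (fun c : ℤ × ℕ × ℕ => (c.1 : F) * (-1) ^ c.2.1 * t ^ c.2.2) _ hf h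
  obtain ⟨x, hx, hx'⟩ := h4
  have h5 : x = xe hD 0 t := by
    apply Subtype.ext
    rw [coe_xe, ← Subgroup.coe_subtype, hx']
    show xG hD 0 (((3 : ℤ) : F) * (-1) ^ 1 * t ^ 1) = _
    congr 1
    have h2 : (2 : F) = 0 := CharTwo.two_eq_zero
    push_cast
    linear_combination (-2 * t) * h2
  rwa [h5] at hx

theorem top_of_short [CharP F 2] {M : Subgroup (K F)} {β : MulAut (K F)} (hβ : ∀ m ∈ M, β m ∈ M) {τ : F ≃+* F}
    (hw : ∀ r < 12, ∃ c : F, c ≠ 0 ∧ ∀ t : F, β (xe hD r t) = xe hD (W r) (c * τ t)) (h4 : ∀ t : F, xe hD 4 t ∈ M) :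
    M = ⊤ := by
  have rot : ∀ r < 12, (∀ t : F, xe hD r t ∈ M) → ∀ t : F, xe hD (W r) t ∈ M := by
    intro r hr h t
    obtain ⟨c, hc, h1⟩ := hw r hr
    have h2 := h1 (τ.symm (c⁻¹ * t))
    rw [RingEquiv.apply_symm_apply, mul_inv_cancel_left₀ hc] at h2
    rw [← h2]
    exact hβ _ (h _)
  have w4 : W 4 = 2 := by decide +kernel
  have w2 : W 2 = 3 := by decide +kernel
  have w3 : W 3 = 7 := by decide +kernel
  have w7 : W 7 = 9 := by decide +kernel
  have w9 : W 9 = 8 := by decide +kernel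
  have w0 : W 0 = 5 := by decide +kernel
  have w5 : W 5 = 10 := by decide +kernel
  have w10 : W 10 = 11 := by decide +kernel
  have w11 : W 11 = 6 := by decide +kernel
  have w6 : W 6 = 1 := by decide +kernel
  have h2 := rot 4 (by norm_num) h4
  rw [w4] at h2
  have h3 := rot 2 (by norm_num) h2
  rw [w2] at h3
  have h7 := rot 3 (by norm_num) h3
  rw [w3] at h7
  have h9 := rot 7 (by norm_num) h7
  rw [w7] at h9
  have h8 := rot 9 (by norm_num) h9
  rw [w9] at h8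
  have h0 := comm_short h2 h3
  have h5 := rot 0 (by norm_num) h0
  rw [w0] at h5
  have h10 := rot 5 (by norm_num) h5
  rw [w5] at h10
  have h11 := rot 10 (by norm_num) h10
  rw [w10] at h11
  have h6 := rot 11 (by norm_num) h11
  rw [w11] at h6
  have h1 := rot 6 (by norm_num) h6
  rw [w6] at h1
  have hall : chevG2.group F ≤ M.map (chevG2.group F).subtype := by
    rw [group_le_iff hD]
    intro r hr t
    have hr' : r < 12 := hr
    have : ∀ t : F, xe hD r t ∈ M := by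
      interval_cases r <;> assumption
    exact ⟨_, this t, rfl⟩
  rw [eq_top_iff]
  intro x _
  obtain ⟨y, hy, hy'⟩ := hall x.2
  have : y = x := Subtype.ext hy'
  exact this ▸ hy

/-! ### the pair -/

variable (F) in
/-- the torus element -/
def hk (k : Fˣ) : K F := he hD (chevG2.simple 1) (k : F)

theorem hk_conj (k : Fˣ) {s : ℕ} (hs : s < 12) (t : F) :
    hk F k * xe hD s t * (hk F k)⁻¹ = xe hD s ((k : F) ^ chevG2.cartan 1 s * t) :=
  he_conj hD (by decide : 1 < chevG2.rank) hs k.ne_zero t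

theorem hk_mem (k : Fˣ) : hk F k ∈ HH chevG2 F := he_mem_HH hD (by decide +kernel) k.ne_zero

theorem HH_comm {x y : K F} (hx : x ∈ HH chevG2 F) (hy : y ∈ HH chevG2 F) : x * y = y * x :=
  Subtype.ext (diag_comm hD hx hy)

theorem nw_conj_HH {x : K F} (hx : x ∈ HH chevG2 F) : nw F * x * (nw F)⁻¹ ∈ HH chevG2 F :=
  diag_conj (D := chevG2) hD (wG_mem_monomial hD (by decide)) hx

theorem IsField.ne {α : MulAut (K F)} {τ : F ≃+* F} (h : IsField α τ) {r : ℕ} (hr : r < 12) (hr' : chevG2.neg r < 12)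
    (t : F) : α (ne hD r t) = ne hD r (τ t) := by
  rw [ne_def, map_mul, map_mul, h r hr, h _ hr', ne_def, map_neg, map_inv₀]

theorem IsField.hk {α : MulAut (K F)} {τ : F ≃+* F} (h : IsField α τ) (k : Fˣ) :
    α (hk F k) = G2.hk F (Units.map (τ : F →* F) k) := by
  have e1 : chevG2.simple 1 < 12 := by decide +kernel
  have e2 : chevG2.neg (chevG2.simple 1) < 12 := by decide +kernel
  show α (he hD _ _) = he hD _ _
  rw [he_eq, map_mul, map_inv, h.ne e1 e2, h.ne e1 e2, map_one, he_eq]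
  rfl

/-- the key commutator -/
theorem comm_eq (k l : Fˣ) :
    hk F k * ((xe hD 4 1 * nw F) * hk F l * (xe hD 4 1 * nw F)⁻¹) * (hk F k)⁻¹ *
      ((xe hD 4 1 * nw F) * hk F l * (xe hD 4 1 * nw F)⁻¹)⁻¹ = xe hD 4 (((k : F) - 1) * (1 - (l : F))) := by
  set u : K F := xe hD 4 1 with hu
  set m := nw F * hk F l * (nw F)⁻¹ with hm
  have h1 : (u * nw F) * hk F l * (u * nw F)⁻¹ = u * m * u⁻¹ := by rw [hm]; group
  rw [h1]
  have hc : hk F k * m = m * hk F k := HH_comm (hk_mem k) (nw_conj_HH (hk_mem l))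
  have hmx : ∀ t : F, m * xe hD 4 t * m⁻¹ = xe hD 4 ((l : F) * t) := by
    intro t
    obtain ⟨c, hc0, hct⟩ := nw_conj (F := F) (r := 8) (by norm_num)
    have w8 : W 8 = 4 := by decide +kernel
    rw [w8] at hct
    have h2 : (nw F)⁻¹ * xe hD 4 t * nw F = xe hD 8 (c⁻¹ * t) := by
      have h3 := hct (c⁻¹ * t)
      rw [mul_inv_cancel_left₀ hc0] at h3
      rw [← h3]; group
    have c18 : chevG2.cartan 1 8 = 1 := by decide +kernel
    calc m * xe hD 4 t * m⁻¹ = nw F * (hk F l * ((nw F)⁻¹ * xe hD 4 t * nw F) * (hk F l)⁻¹) * (nw F)⁻¹ := by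
          rw [hm]; group
      _ = _ := by
        rw [h2, hk_conj _ (by norm_num), c18, zpow_one, hct]
        congr 1
        field_simp
  have h3 : u * m * u⁻¹ * m⁻¹ = xe hD 4 (1 - (l : F)) := by
    have h4 := hmx (-1)
    rw [xe_neg, ← hu] at h4
    calc u * m * u⁻¹ * m⁻¹ = u * (m * u⁻¹ * m⁻¹) := by group
      _ = _ := by
        rw [h4, hu, ← xe_add]
        congr 1
        ring
  have h5 : m * (hk F k)⁻¹ * m⁻¹ = (hk F k)⁻¹ := by
    have : m * (hk F k)⁻¹ = (hk F k)⁻¹ * m := by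
      rw [eq_inv_mul_iff_mul_eq, ← mul_assoc, hc]; group
    rw [this]; group
  have c14' : chevG2.cartan 1 4 = 1 := c14
  calc hk F k * (u * m * u⁻¹) * (hk F k)⁻¹ * (u * m * u⁻¹)⁻¹
      = hk F k * (u * m * u⁻¹ * m⁻¹) * (m * (hk F k)⁻¹ * m⁻¹) * (u * m * u⁻¹ * m⁻¹)⁻¹ := by group
    _ = hk F k * xe hD 4 (1 - (l : F)) * (hk F k)⁻¹ * (xe hD 4 (1 - (l : F)))⁻¹ := by rw [h5, h3]
    _ = _ := by
      rw [hk_conj _ (by norm_num), c14', zpow_one, ← xe_neg, ← xe_add]
      congr 1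
      ring

theorem comm_abs {Γ : Type*} [Group Γ] {z z' a b : Γ} (c1 : Commute z a) (c2 : Commute z b) (c3 : Commute z' a)
    (c4 : Commute z' b) (c5 : Commute z z') : z * a * (z' * b) * (z * a)⁻¹ * (z' * b)⁻¹ = a * b * a⁻¹ * b⁻¹ := by
  have e1 : z * a * (z' * b) = (z * z') * (a * b) := by
    calc z * a * (z' * b) = z * (a * z') * b := by group
      _ = z * (z' * a) * b := by rw [c3.eq]
      _ = _ := by group
  have e2 : (z' * b) * (z * a) = (z * z') * (b * a) := by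
    calc (z' * b) * (z * a) = z' * (b * z) * a := by group
      _ = z' * (z * b) * a := by rw [c2.eq]
      _ = (z' * z) * (b * a) := by group
      _ = _ := by rw [c5.eq]
  calc z * a * (z' * b) * (z * a)⁻¹ * (z' * b)⁻¹ = (z * a * (z' * b)) * ((z' * b) * (z * a))⁻¹ := by group
    _ = ((z * z') * (a * b)) * ((z * z') * (b * a))⁻¹ := by rw [e1, e2]
    _ = (z * z') * (a * b * a⁻¹ * b⁻¹) * (z * z')⁻¹ := by group
    _ = _ := by
      have c6 : Commute (z * z') (a * b * a⁻¹ * b⁻¹) := by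
        refine Commute.mul_left ?_ ?_
        · exact ((c1.mul_right c2).mul_right c1.inv_right).mul_right c2.inv_right
        · exact ((c3.mul_right c4).mul_right c3.inv_right).mul_right c4.inv_right
      rw [c6.eq]; group

/-- **The twisted Steinberg pair.** -/
theorem trick [Finite F] [CharP F 2] {Γ : Type*} [Group Γ] (ι : K F →* Γ) {z Φ : Γ} {α : MulAut (K F)}
    {τ : F ≃+* F} (hα : IsField α τ) (hz : ∀ g, z * ι g = ι g * z)
    (hz' : ∀ g, (Φ * z * Φ⁻¹) * ι g = ι g * (Φ * z * Φ⁻¹)) (hzz : z * (Φ * z * Φ⁻¹) = (Φ * z * Φ⁻¹) * z)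
    (hΦ : ∀ g, Φ * ι g * Φ⁻¹ = ι (α g)) {k : Fˣ} (hk' : ∀ x : Fˣ, x ∈ Subgroup.zpowers k) (hk1 : (k : F) ≠ 1) :
    ι.range ≤ Subgroup.closure {z * ι (hk F k), ι (xe hD 4 1 * nw F) * Φ} := by
  set X := z * ι (hk F k) with hX
  set Y := ι (xe hD 4 1 * nw F) * Φ with hY
  set M := Subgroup.closure ({X, Y} : Set Γ) with hM
  have mX : X ∈ M := Subgroup.subset_closure (by simp)
  have mY : Y ∈ M := Subgroup.subset_closure (by simp)
  set l : Fˣ := Units.map (τ : F →* F) k with hl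
  have h1 : Y * X * Y⁻¹ = (Φ * z * Φ⁻¹) * ι ((xe hD 4 1 * nw F) * hk F l * (xe hD 4 1 * nw F)⁻¹) := by
    have e0 : ι (hk F l) = Φ * ι (hk F k) * Φ⁻¹ := by rw [hΦ, hα.hk]
    rw [map_mul, map_mul, e0, map_inv]
    calc Y * X * Y⁻¹ = (ι (xe hD 4 1 * nw F) * (Φ * z * Φ⁻¹)) * (Φ * ι (hk F k) * Φ⁻¹) *
          (ι (xe hD 4 1 * nw F))⁻¹ := by rw [hY, hX]; group
      _ = ((Φ * z * Φ⁻¹) * ι (xe hD 4 1 * nw F)) * (Φ * ι (hk F k) * Φ⁻¹) * (ι (xe hD 4 1 * nw F))⁻¹ := by rw [hz']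
      _ = _ := by simp only [mul_assoc]
  have h2 : X * (Y * X * Y⁻¹) * X⁻¹ * (Y * X * Y⁻¹)⁻¹ = ι (xe hD 4 (((k : F) - 1) * (1 - (l : F)))) := by
    rw [h1, hX, comm_abs (hz _) (hz _) (hz' _) (hz' _) hzz, ← map_inv, ← map_mul, ← map_mul, ← map_inv, ← map_mul,
      comm_eq]
  set e0 := ((k : F) - 1) * (1 - (l : F)) with he0
  have hl1 : (l : F) ≠ 1 := by
    intro h
    apply hk1
    apply τ.injective
    rw [map_one]
    exact h
  have he00 : e0 ≠ 0 := mul_ne_zero (sub_ne_zero.2 hk1) (sub_ne_zero.2 (Ne.symm hl1))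
  have hx0 : ι (xe hD 4 e0) ∈ M := by
    rw [← h2]
    exact M.mul_mem (M.mul_mem (M.mul_mem mX (M.mul_mem (M.mul_mem mY mX) (M.inv_mem mY))) (M.inv_mem mX))
      (M.inv_mem (M.mul_mem (M.mul_mem mY mX) (M.inv_mem mY)))
  -- the subgroup of the root group
  let A : AddSubgroup F :=
    { carrier := {t | ι (xe hD 4 t) ∈ M}
      zero_mem' := by show ι (xe hD 4 0) ∈ M; rw [xe_zero, map_one]; exact M.one_mem
      add_mem' := by
        intro s t hs ht
        show ι (xe hD 4 (s + t)) ∈ M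
        rw [xe_add, map_mul]; exact M.mul_mem hs ht
      neg_mem' := by
        intro s hs
        show ι (xe hD 4 (-s)) ∈ M
        rw [xe_neg, map_inv]; exact M.inv_mem hs }
  have hAk : ∀ s ∈ A, (k : F) * s ∈ A := by
    intro s hs
    show ι (xe hD 4 ((k : F) * s)) ∈ M
    have h3 := hk_conj k (s := 4) (by norm_num) s
    rw [c14, zpow_one] at h3
    rw [← h3, map_mul, map_mul, map_inv]
    have h4 : ι (hk F k) * ι (xe hD 4 s) * (ι (hk F k))⁻¹ = X * ι (xe hD 4 s) * X⁻¹ := by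
      have e1 : ι (hk F k) * ι (xe hD 4 s) * (ι (hk F k))⁻¹ = ι (hk F k * xe hD 4 s * (hk F k)⁻¹) := by
        rw [map_mul, map_mul, map_inv]
      calc ι (hk F k) * ι (xe hD 4 s) * (ι (hk F k))⁻¹
          = (z * ι (hk F k * xe hD 4 s * (hk F k)⁻¹)) * z⁻¹ := by rw [hz, mul_inv_cancel_right, e1]
        _ = z * (ι (hk F k) * ι (xe hD 4 s) * (ι (hk F k))⁻¹) * z⁻¹ := by rw [← e1]
        _ = _ := by rw [hX, mul_inv_rev]; simp only [mul_assoc]
    rw [h4]
    exact M.mul_mem (M.mul_mem mX hs) (M.inv_mem mX)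
  have hA : A = ⊥ ∨ A = ⊤ := by
    refine H136.FieldLem.eq_bot_or_top hk' A ?_
    intro s hs
    have := hAk _ (hAk _ hs)
    rwa [← mul_assoc, ← pow_two] at this
  have hA' : A = ⊤ := by
    rcases hA with h | h
    · exfalso
      have h3 : e0 ∈ A := hx0
      rw [h, AddSubgroup.mem_bot] at h3
      exact he00 h3
    · exact h
  have has4 : ∀ t : F, xe hD 4 t ∈ M.comap ι := by
    intro t
    have : t ∈ A := by rw [hA']; exact AddSubgroup.mem_top t
    exact this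
  have mN : ι (nw F) * Φ ∈ M := by
    have h3 := M.mul_mem (M.inv_mem (has4 1)) mY
    have h4 : (ι (xe hD 4 (1 : F)))⁻¹ * Y = ι (nw F) * Φ := by rw [hY, map_mul]; group
    rwa [h4] at h3
  have htop : M.comap ι = ⊤ := by
    refine top_of_short (β := MulAut.conj (nw F) * α) ?_ (τ := τ) ?_ has4
    · intro m hm
      show ι (nw F * α m * (nw F)⁻¹) ∈ M
      have h3 : ι (nw F * α m * (nw F)⁻¹) = (ι (nw F) * Φ) * ι m * (ι (nw F) * Φ)⁻¹ := by
        rw [map_mul, map_mul, ← hΦ, map_inv]; group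
      rw [h3]
      exact M.mul_mem (M.mul_mem mN hm) (M.inv_mem mN)
    · intro r hr
      obtain ⟨c, hc, h3⟩ := nw_conj (F := F) hr
      refine ⟨c, hc, fun t => ?_⟩
      rw [MulAut.mul_apply, hα r hr, MulAut.conj_apply, h3]
  rintro _ ⟨g, rfl⟩
  have : g ∈ M.comap ι := by rw [htop]; exact Subgroup.mem_top g
  exact this

end Cfsg.Agent.H490.G2
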