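import Cfsg.Agent.H490.Aff

/-!
# TEAM GEN piece A: the affine step (helper490)

An affine 2-transitive group with good linear part is generated by two elements.
-/

set_option autoImplicit false

namespace Cfsg.Agent.H490.AffStep

open Cfsg.Agent.H440.TwoGen Cfsg.Agent.H891.Gen Cfsg.Agent.H490.Aff Subgroup MulAction

universe u v

section

variable {G : Type u} {Ω : Type v} [Group G] [MulAction G Ω]

/-- `2`-transitivity, in the form used below -/
theorem two_trans (h : IsMultiplyPretransitive G Ω 2) {a b c d : Ω} (hab : a ≠ b) (hcd : c ≠ d) :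
    ∃ g : G, g • a = c ∧ g • b = d :=
  (is_two_pretransitive_iff.1 h) hab hcd

theorem trans_of_normal [FaithfulSMul G Ω] (h2 : IsMultiplyPretransitive G Ω 2) {M : Subgroup G} (hM : M.Normal)
    (hne : M ≠ ⊥) (a b : Ω) : ∃ m ∈ M, m • a = b := by
  by_cases hab : a = b
  · exact ⟨1, M.one_mem, by rw [one_smul, hab]⟩
  obtain ⟨m, hm, hm1⟩ := (Subgroup.ne_bot_iff_exists_ne_one.1 hne) |>.elim (fun x hx => (⟨x.1, x.2, fun h => hx (Subtype.ext h)⟩ : ∃ m, m ∈ M ∧ m ≠ 1))
  obtain ⟨w, hw⟩ : ∃ w : Ω, m • w ≠ w := by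
    by_contra hne'
    push Not at hne'
    exact hm1 (FaithfulSMul.eq_of_smul_eq_smul (α := Ω) (fun w => by rw [hne' w, one_smul]))
  obtain ⟨g, h1, h3⟩ := two_trans h2 (Ne.symm hw) hab
  refine ⟨g * m * g⁻¹, hM.conj_mem m hm g, ?_⟩
  rw [mul_smul, mul_smul, ← h1, inv_smul_smul, h3]

theorem regular [FaithfulSMul G Ω] (h2 : IsMultiplyPretransitive G Ω 2) {M : Subgroup G} (hM : M.Normal)
    (hne : M ≠ ⊥) (hab : ∀ x ∈ M, ∀ y ∈ M, x * y = y * x) {m : G} (hm : m ∈ M) {a : Ω} (h : m • a = a) : m = 1 := by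
  refine FaithfulSMul.eq_of_smul_eq_smul (α := Ω) (fun w => ?_)
  obtain ⟨m', hm', rfl⟩ := trans_of_normal h2 hM hne a w
  rw [one_smul, ← mul_smul, hab m hm m' hm', mul_smul, h]

theorem regular' [FaithfulSMul G Ω] (h2 : IsMultiplyPretransitive G Ω 2) {M : Subgroup G} (hM : M.Normal)
    (hne : M ≠ ⊥) (hab : ∀ x ∈ M, ∀ y ∈ M, x * y = y * x) {m m' : G} (hm : m ∈ M) (hm' : m' ∈ M) {a : Ω}
    (h : m • a = m' • a) : m = m' := by
  have h1 : (m'⁻¹ * m) • a = a := by rw [mul_smul, h, inv_smul_smul]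
  have := regular h2 hM hne hab (mul_mem (inv_mem hm') hm) h1
  exact (inv_mul_eq_one.1 this).symm

/-- The point stabiliser is transitive on `M ∖ 1` by conjugation. -/
theorem conj_trans [FaithfulSMul G Ω] (h2 : IsMultiplyPretransitive G Ω 2) {M : Subgroup G} (hM : M.Normal)
    (hne : M ≠ ⊥) (hab : ∀ x ∈ M, ∀ y ∈ M, x * y = y * x) (a : Ω) {m m' : G} (hm : m ∈ M) (hm' : m' ∈ M)
    (h1 : m ≠ 1) (h1' : m' ≠ 1) : ∃ s ∈ stabilizer G a, s * m * s⁻¹ = m' := by
  have h3 : a ≠ m • a := fun h => h1 (regular h2 hM hne hab hm h.symm)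
  have h4 : a ≠ m' • a := fun h => h1' (regular h2 hM hne hab hm' h.symm)
  obtain ⟨s, hs, hs'⟩ := two_trans h2 h3 h4
  refine ⟨s, hs, regular' h2 hM hne hab (hM.conj_mem m hm s) hm' (a := a) ?_⟩
  have h5 : s⁻¹ • a = a := by rw [inv_smul_eq_iff]; exact hs.symm
  rw [mul_smul, mul_smul, h5, hs']

end

/-- conjugation action of the point stabiliser on the (additive) normal subgroup -/
def rho {G : Type u} [Group G] (M : Subgroup G) [M.Normal] (S : Subgroup G) : ↥S →* Equiv.Perm (Additive ↥M) where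
  toFun s := (MulEquiv.toAdditive (MulAut.conjNormal (H := M) (s : G))).toEquiv
  map_one' := by
    ext x
    simp
  map_mul' s t := by
    ext x
    simp [mul_assoc]

theorem rho_apply {G : Type u} [Group G] (M : Subgroup G) [M.Normal] (S : Subgroup G) (s : ↥S) (m : ↥M) :
    ((rho M S s (Additive.ofMul m)).toMul : G) = s * m * (s : G)⁻¹ := rfl

theorem rho_apply' {G : Type u} [Group G] (M : Subgroup G) [M.Normal] (S : Subgroup G) (s : ↥S) (m : Additive ↥M) :
    ((rho M S s m).toMul : G) = s * m.toMul * (s : G)⁻¹ := rfl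

/-- The affine step. -/
theorem affineStep : AffineStep.{u, v} := by
  intro G Ω _ _ M _ _ _ h2 hM hne hab hgood
  classical
  -- a point
  obtain ⟨m0, hm0, hm01⟩ : ∃ m ∈ M, m ≠ 1 := by
    by_contra h
    push Not at h
    exact hne ((Subgroup.eq_bot_iff_forall M).2 h)
  have hΩ : Nonempty Ω := by
    by_contra h
    rw [not_nonempty_iff] at h
    exact hm01 (FaithfulSMul.eq_of_smul_eq_smul (α := Ω) (fun w => (h.false w).elim))
  obtain ⟨a0⟩ := hΩ
  set S : Subgroup G := stabilizer G a0 with hS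
  let _ : CommGroup ↥M := { (inferInstance : Group ↥M) with mul_comm := fun x y => Subtype.ext (hab x x.2 y y.2) }
  set ρ : ↥S →* Equiv.Perm (Additive ↥M) := rho M S with hρ
  have hρa : ∀ (s : ↥S) (m : Additive ↥M), ((ρ s m).toMul : G) = s * m.toMul * (s : G)⁻¹ := fun s m => rfl
  have hadd : ∀ (s : ↥S) (v w : Additive ↥M), ρ s (v + w) = ρ s v + ρ s w := by
    intro s v w
    apply Additive.toMul.injective
    apply Subtype.ext
    show (s : G) * (v.toMul * w.toMul : ↥M) * (s : G)⁻¹ = (s * v.toMul * (s : G)⁻¹) * (s * w.toMul * (s : G)⁻¹)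
    rw [Subgroup.coe_mul]
    group
  -- `ρ` is injective
  have hinj : Function.Injective ρ := by
    rw [injective_iff_map_eq_one]
    intro s hs
    apply Subtype.ext
    refine FaithfulSMul.eq_of_smul_eq_smul (α := Ω) (fun w => ?_)
    obtain ⟨m, hm, rfl⟩ := trans_of_normal h2 hM hne a0 w
    have h3 : (s : G) * m * (s : G)⁻¹ = m := by
      have := congrArg (fun f : Equiv.Perm (Additive ↥M) => ((f (Additive.ofMul ⟨m, hm⟩)).toMul : G)) hs
      simpa [hρa] using this
    have h4 : (s : G) * m = m * s := by rw [← mul_inv_eq_iff_eq_mul]; exact h3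
    have h5 : (s : G) • a0 = a0 := s.2
    show (s : G) • m • a0 = (1 : G) • m • a0
    rw [one_smul, ← mul_smul, h4, mul_smul, h5]
  -- the prime
  obtain ⟨p, hp, hpo⟩ : ∃ p : ℕ, p.Prime ∧ ∀ m ∈ M, m ^ p = 1 := by
    have h3 : Nat.card ↥M ≠ 1 := by
      intro h
      exact hne (Subgroup.card_eq_one.1 h)
    obtain ⟨p, hp, hdvd⟩ := Nat.exists_prime_and_dvd h3
    have := Fact.mk hp
    obtain ⟨x, hx⟩ := exists_prime_orderOf_dvd_card' (G := ↥M) p hdvd
    refine ⟨p, hp, fun m hm => ?_⟩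
    by_cases hm1 : m = 1
    · rw [hm1, one_pow]
    have hx1 : (x : G) ≠ 1 := by
      intro h
      have : x = 1 := Subtype.ext h
      rw [this, orderOf_one] at hx
      exact hp.one_lt.ne hx
    obtain ⟨s, -, hs⟩ := conj_trans h2 hM hne hab a0 x.2 hm hx1 hm1
    rw [← hs, conj_pow, ← Subgroup.coe_pow, ← hx, pow_orderOf_eq_one, Subgroup.coe_one]
    group
  have hLin : Lin p ρ.range := by
    refine ⟨inferInstance, hp, ?_, ?_, ?_, ?_⟩
    · rintro h ⟨s, rfl⟩ v w
      exact hadd s v w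
    · intro v
      apply Additive.toMul.injective
      apply Subtype.ext
      show ((v.toMul ^ p : ↥M) : G) = 1
      rw [Subgroup.coe_pow]
      exact hpo _ v.toMul.2
    · exact ⟨Additive.ofMul ⟨m0, hm0⟩, fun h => hm01 (congrArg (fun z : Additive ↥M => (z.toMul : G)) h)⟩
    · intro v w hv hw
      have hv' : (v.toMul : G) ≠ 1 := fun h => hv (Additive.toMul.injective (Subtype.ext h))
      have hw' : (w.toMul : G) ≠ 1 := fun h => hw (Additive.toMul.injective (Subtype.ext h))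
      obtain ⟨s, hs, hs'⟩ := conj_trans h2 hM hne hab a0 v.toMul.2 w.toMul.2 hv' hw'
      exact ⟨ρ ⟨s, hs⟩, ⟨_, rfl⟩, Additive.toMul.injective (Subtype.ext hs')⟩
  obtain ⟨a, b, hcl, v, w, hno⟩ := hgood (Additive ↥M) p ρ.range hLin
  have haR : a ∈ ρ.range := hcl ▸ subset_closure (by simp)
  have hbR : b ∈ ρ.range := hcl ▸ subset_closure (by simp)
  obtain ⟨a', ha'⟩ := haR
  obtain ⟨b', hb'⟩ := hbR
  have hclS : closure ({a', b'} : Set ↥S) = ⊤ := by
    apply Subgroup.map_injective hinj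
    rw [MonoidHom.map_closure, Set.image_pair, ha', hb', hcl, ← MonoidHom.range_eq_map]
  set x : G := (v.toMul : G) * a' with hx
  set y : G := (w.toMul : G) * b' with hy
  set X : Subgroup G := closure ({x, y} : Set G) with hX
  have hxX : x ∈ X := subset_closure (by simp)
  have hyX : y ∈ X := subset_closure (by simp)
  -- `X M = G`
  have hS_le : S ≤ X ⊔ M := by
    have h3 : (⊤ : Subgroup ↥S).map S.subtype ≤ X ⊔ M := by
      rw [← hclS, MonoidHom.map_closure, Set.image_pair, closure_le]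
      rintro z (rfl | hz)
      · have h4 : (a' : G) = (v.toMul : G)⁻¹ * x := by rw [hx, inv_mul_cancel_left]
        show (a' : G) ∈ X ⊔ M
        rw [h4]
        exact mul_mem (Subgroup.mem_sup_right (inv_mem v.toMul.2)) (Subgroup.mem_sup_left hxX)
      · rw [Set.mem_singleton_iff] at hz
        subst hz
        have h4 : (b' : G) = (w.toMul : G)⁻¹ * y := by rw [hy, inv_mul_cancel_left]
        show (b' : G) ∈ X ⊔ M
        rw [h4]
        exact mul_mem (Subgroup.mem_sup_right (inv_mem w.toMul.2)) (Subgroup.mem_sup_left hyX)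
    rwa [← MonoidHom.range_eq_map, Subgroup.range_subtype] at h3
  have htop : X ⊔ M = ⊤ := by
    rw [eq_top_iff]
    intro g _
    obtain ⟨m, hm, hm'⟩ := trans_of_normal h2 hM hne a0 (g • a0)
    have h3 : m⁻¹ * g ∈ S := by
      rw [hS, mem_stabilizer_iff, mul_smul, ← hm', inv_smul_smul]
    have h4 : g = m * (m⁻¹ * g) := by group
    rw [h4]
    exact mul_mem (Subgroup.mem_sup_right hm) (hS_le h3)
  have hdec : ∀ g : G, ∃ m ∈ M, ∃ k ∈ X, m * k = g := by
    intro g
    have h3 : g ∈ M ⊔ X := by rw [sup_comm, htop]; trivial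
    obtain ⟨m, hm, k, hk, h⟩ := Subgroup.mem_sup_of_normal_left.1 h3
    exact ⟨m, hm, k, hk, h⟩
  suffices hMX : M ≤ X by
    refine ⟨x, y, ?_⟩
    show X = ⊤
    rw [← htop]
    exact (sup_eq_left.2 hMX).symm
  by_contra hMX
  -- `X ∩ M = 1`
  have hbot : ∀ m ∈ M, m ∈ X → m = 1 := by
    intro m hm hmX
    by_contra hm1
    apply hMX
    intro m' hm'
    by_cases hm1' : m' = 1
    · rw [hm1']; exact X.one_mem
    obtain ⟨s, hs, hs'⟩ := conj_trans h2 hM hne hab a0 hm hm' hm1 hm1'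
    obtain ⟨n, hn, k, hk, h⟩ := hdec s
    have h3 : m' = k * m * k⁻¹ := by
      rw [← hs', ← h]
      have h4 : k * m * k⁻¹ ∈ M := hM.conj_mem m hm k
      have h5 : n * (k * m * k⁻¹) = (k * m * k⁻¹) * n := hab n hn _ h4
      calc n * k * m * (n * k)⁻¹ = n * (k * m * k⁻¹) * n⁻¹ := by group
        _ = k * m * k⁻¹ := by rw [h5]; group
    rw [h3]
    exact mul_mem (mul_mem hk hmX) (inv_mem hk)
  -- the complement gives a derivation
  have hex : ∀ s : ↥S, ∃ m : ↥M, (m : G) * s ∈ X := by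
    intro s
    obtain ⟨n, hn, k, hk, h⟩ := hdec s
    refine ⟨⟨n, hn⟩⁻¹, ?_⟩
    rw [← h]
    simpa using hk
  choose ζ hζ using hex
  have huniq : ∀ (s : ↥S) (m m' : ↥M), (m : G) * s ∈ X → (m' : G) * s ∈ X → m = m' := by
    intro s m m' h h'
    have h3 : (m : G) * (m' : G)⁻¹ ∈ X := by
      have := mul_mem h (inv_mem h')
      rwa [mul_inv_rev, mul_assoc, mul_inv_cancel_left] at this
    have := hbot _ (mul_mem m.2 (inv_mem m'.2)) h3
    exact Subtype.ext (mul_inv_eq_one.1 this)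
  have hcoc : ∀ s t : ↥S, (ζ (s * t) : G) = ζ s * (s * ζ t * (s : G)⁻¹) := by
    intro s t
    have h3 : ((ζ s * ⟨(s : G) * ζ t * (s : G)⁻¹, hM.conj_mem _ (ζ t).2 s⟩ : ↥M) : G) * ((s * t : ↥S) : G) ∈ X := by
      have h4 := mul_mem (hζ s) (hζ t)
      have h5 : (ζ s : G) * (s : G) * ((ζ t : G) * (t : G)) =
          ((ζ s * ⟨(s : G) * ζ t * (s : G)⁻¹, hM.conj_mem _ (ζ t).2 s⟩ : ↥M) : G) * ((s * t : ↥S) : G) := by
        rw [Subgroup.coe_mul, Subgroup.coe_mul]
        show _ = (ζ s : G) * ((s : G) * ζ t * (s : G)⁻¹) * ((s : G) * t)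
        group
      rwa [h5] at h4
    exact congrArg Subtype.val (huniq (s * t) _ _ (hζ (s * t)) h3)
  apply hno
  have hlift : ∀ g ∈ ρ.range, ∃ s : ↥S, ρ s = g := fun g hg => hg
  refine ⟨fun g => if hg : g ∈ ρ.range then Additive.ofMul (ζ (hlift g hg).choose) else 0, ?_, ?_, ?_⟩
  · intro g hg h hh
    have hgh : g * h ∈ ρ.range := mul_mem hg hh
    simp only [hg, hh, hgh, dif_pos]
    have e1 := (hlift g hg).choose_spec
    have e2 := (hlift h hh).choose_spec
    have e3 := (hlift _ hgh).choose_spec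
    have e4 : (hlift _ hgh).choose = (hlift g hg).choose * (hlift h hh).choose := by
      apply hinj
      rw [e3, map_mul, e1, e2]
    rw [e4]
    apply Additive.toMul.injective
    apply Subtype.ext
    show (ζ ((hlift g hg).choose * (hlift h hh).choose) : G) =
      (ζ (hlift g hg).choose : G) * ((g (Additive.ofMul (ζ (hlift h hh).choose))).toMul : G)
    rw [hcoc]
    congr 1
    conv_rhs => rw [← e1]
    rfl
  · have haR : a ∈ ρ.range := ⟨a', ha'⟩
    simp only [haR, dif_pos]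
    have e1 := (hlift a haR).choose_spec
    have e2 : (hlift a haR).choose = a' := hinj (e1.trans ha'.symm)
    rw [e2]
    apply Additive.toMul.injective
    exact huniq a' _ _ (hζ a') hxX
  · have hbR : b ∈ ρ.range := ⟨b', hb'⟩
    simp only [hbR, dif_pos]
    have e1 := (hlift b hbR).choose_spec
    have e2 : (hlift b hbR).choose = b' := hinj (e1.trans hb'.symm)
    rw [e2]
    apply Additive.toMul.injective
    exact huniq b' _ _ (hζ b') hyX

end Cfsg.Agent.H490.AffStep
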