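import Cfsg.Agent.H891.Gen.LinRows
import Cfsg.Agent.H490.AffStep

/-!
# TEAM GEN: derivations, tools in the language of `H891.Gen.Small` (helper490)

`H` a group acting on the additive group `V` (`DistribMulAction`); `Small H V`: fewer than `|V| ^ 2` derivations.

* `small_of_pair`, `small_of_norm`, `small_of_fixed`, `small_of_involution` : for `H = ⟨a, b⟩`;
* `small_of_coprime` : `|H|` prime to `p`;
* `small_of_map_normal`, `small_of_map_index` : a homomorphism `φ : K →* H` compatible with the actions, `C_V(K) = 0`, the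
  image of `φ` normal / of index prime to `p`;  `small_of_normal`, `small_of_index` : the same for subgroups;
* `small_congr` : transport.
-/

set_option autoImplicit false

namespace Cfsg.Agent.H490.Der

open Cfsg.Agent.H440.TwoGen Cfsg.Agent.H891.Gen Subgroup

section

variable {H V : Type*} [Group H] [AddCommGroup V] [DistribMulAction H V]

/-- derivations -/
def IsDer (z : H → V) : Prop := ∀ g h : H, z (g * h) = z g + g • z h

theorem IsDer.one {z : H → V} (hz : IsDer z) : z 1 = 0 := by
  have h := hz 1 1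
  rw [mul_one, one_smul] at h
  exact add_eq_left.1 h.symm

theorem IsDer.inv {z : H → V} (hz : IsDer z) (g : H) : z g⁻¹ = - (g⁻¹ • z g) := by
  have h := hz g⁻¹ g
  rw [inv_mul_cancel, hz.one] at h
  exact eq_neg_of_add_eq_zero_left h.symm

theorem IsDer.sub {z z' : H → V} (hz : IsDer z) (hz' : IsDer z') : IsDer (fun h => z h - z' h) := by
  intro g h
  show z (g * h) - z' (g * h) = (z g - z' g) + g • (z h - z' h)
  rw [hz, hz', smul_sub, add_sub_add_comm]

theorem isDer_inner (u : V) : IsDer (fun h : H => u - h • u) := by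
  intro g h
  show u - (g * h) • u = u - g • u + g • (u - h • u)
  rw [smul_sub, mul_smul]
  abel

theorem IsDer.pow {z : H → V} (hz : IsDer z) (a : H) (n : ℕ) :
    z (a ^ n) = ∑ i ∈ Finset.range n, a ^ i • z a := by
  induction n with
  | zero => simpa using hz.one
  | succ n ih => rw [pow_succ, hz, ih, Finset.sum_range_succ]

theorem IsDer.norm_eq_zero {z : H → V} (hz : IsDer z) {a : H} {n : ℕ} (hn : a ^ n = 1) :
    ∑ i ∈ Finset.range n, a ^ i • z a = 0 := by
  rw [← hz.pow, hn, hz.one]

theorem IsDer.ext {S : Set H} (hS : closure S = ⊤) {z z' : H → V} (hz : IsDer z) (hz' : IsDer z')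
    (h : ∀ s ∈ S, z s = z' s) : z = z' := by
  funext g
  have hg : g ∈ closure S := hS ▸ mem_top g
  induction hg using Subgroup.closure_induction with
  | mem x hx => exact h x hx
  | one => rw [hz.one, hz'.one]
  | mul x y hx hy ihx ihy => rw [hz, hz', ihx, ihy]
  | inv x hx ihx => rw [hz.inv, hz'.inv, ihx]

/-! ### `Small` for a generating pair -/

theorem small_of_pair [Finite H] [Finite V] {a b : H} (hab : closure ({a, b} : Set H) = ⊤)
    (h : ∃ v w : V, ¬ ∃ z : H → V, IsDer z ∧ z a = v ∧ z b = w) : Small H V := by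
  obtain ⟨v, w, hvw⟩ := h
  let F : {z : H → V // ∀ g h : H, z (g * h) = z g + g • z h} → V × V := fun z => (z.1 a, z.1 b)
  have hF : Function.Injective F := by
    intro z z' h
    simp only [F, Prod.mk.injEq] at h
    refine Subtype.ext (IsDer.ext hab z.2 z'.2 ?_)
    rintro s (rfl | hs)
    · exact h.1
    · rw [Set.mem_singleton_iff] at hs
      subst hs
      exact h.2
  have hF' : ¬ Function.Surjective F := by
    intro hsur
    obtain ⟨z, hz⟩ := hsur (v, w)
    simp only [F, Prod.mk.injEq] at hz
    exact hvw ⟨z.1, z.2, hz.1, hz.2⟩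
  have h5 : Nat.card {z : H → V // ∀ g h : H, z (g * h) = z g + g • z h} < Nat.card (V × V) := by
    refine lt_of_le_of_ne (Nat.card_le_card_of_injective F hF) ?_
    intro h6
    exact hF' ((Nat.bijective_iff_injective_and_card F).2 ⟨hF, h6⟩).2
  rw [Nat.card_prod, ← sq] at h5
  exact h5

/-- `Small` gives a pair of values which is not hit -/
theorem exists_pair [Finite H] [Finite V] (hs : Small H V) (a b : H) :
    ∃ v w : V, ¬ ∃ z : H → V, IsDer z ∧ z a = v ∧ z b = w := by
  by_contra hne
  push Not at hne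
  choose z hz ha hb using hne
  let F : V × V → {z : H → V // ∀ g h : H, z (g * h) = z g + g • z h} := fun p => ⟨z p.1 p.2, hz p.1 p.2⟩
  have hF : Function.Injective F := by
    rintro ⟨v, w⟩ ⟨v', w'⟩ h
    have h1 : z v w = z v' w' := congrArg Subtype.val h
    have h2 := congrFun h1 a
    have h3 := congrFun h1 b
    rw [ha, ha] at h2
    rw [hb, hb] at h3
    rw [h2, h3]
  have h4 := Nat.card_le_card_of_injective F hF
  rw [Nat.card_prod, ← sq] at h4
  unfold H891.Gen.Small at hs
  omega

theorem small_of_norm [Finite H] [Finite V] {a b : H} (hab : closure ({a, b} : Set H) = ⊤) {n : ℕ} (hn : a ^ n = 1)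
    {v : V} (hv : ∑ i ∈ Finset.range n, a ^ i • v ≠ 0) : Small H V := by
  refine small_of_pair hab ⟨v, 0, ?_⟩
  rintro ⟨z, hz, hza, -⟩
  have := hz.norm_eq_zero hn
  rw [hza] at this
  exact hv this

/-- an element of order prime to `p` with a nonzero fixed vector -/
theorem small_of_fixed [Finite H] [Finite V] {p : ℕ} (hp : p.Prime) (hV : ∀ v : V, p • v = 0) {a b : H}
    (hab : closure ({a, b} : Set H) = ⊤) {n : ℕ} (hn : a ^ n = 1) (hpn : ¬ p ∣ n) {v : V} (hv : v ≠ 0)
    (hav : a • v = v) : Small H V := by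
  refine small_of_norm hab hn (v := v) ?_
  have h1 : ∀ i : ℕ, a ^ i • v = v := by
    intro i
    induction i with
    | zero => rw [pow_zero, one_smul]
    | succ i ih => rw [pow_succ, mul_smul, hav, ih]
  rw [Finset.sum_congr rfl (fun i _ => h1 i), Finset.sum_const, Finset.card_range]
  intro h2
  apply hv
  have h3 : addOrderOf v ∣ n := addOrderOf_dvd_of_nsmul_eq_zero h2
  have h4 : addOrderOf v ∣ p := addOrderOf_dvd_of_nsmul_eq_zero (hV v)
  rcases (Nat.dvd_prime hp).1 h4 with h5 | h5
  · exact AddMonoid.addOrderOf_eq_one_iff.1 h5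
  · exact absurd (h5 ▸ h3) hpn

/-- an involution acting nontrivially, `p = 2` -/
theorem small_of_involution [Finite H] [Finite V] (hV : ∀ v : V, 2 • v = 0) {a b : H}
    (hab : closure ({a, b} : Set H) = ⊤) (ha : a ^ 2 = 1) {v : V} (hv : a • v ≠ v) : Small H V := by
  refine small_of_norm hab ha (v := v) ?_
  rw [Finset.sum_range_succ, Finset.sum_range_one, pow_zero, pow_one, one_smul]
  intro h
  apply hv
  have h2 := hV v
  rw [two_nsmul] at h2
  exact add_left_cancel (h.trans h2.symm)

/-! ### coprime groups -/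

theorem exists_inner [Finite H] {p : ℕ} (hp : p.Prime) (hV : ∀ v : V, p • v = 0) (hH : ¬ p ∣ Nat.card H) {z : H → V}
    (hz : IsDer z) : ∃ u : V, ∀ g, z g = u - g • u := by
  classical
  let _ := Fintype.ofFinite H
  obtain ⟨m, hm⟩ := Aff.exists_inv_nsmul hp hV hH
  refine ⟨m • ∑ c : H, z c, fun g => ?_⟩
  have h1 : g • ∑ c : H, z c = ∑ c : H, g • z c := Finset.smul_sum
  rw [smul_comm g m, h1]
  have h2 : ∀ c : H, g • z c = z (g * c) - z g := by
    intro c
    rw [hz]
    abel
  rw [Finset.sum_congr rfl (fun c _ => h2 c), Finset.sum_sub_distrib, Finset.sum_const, Finset.card_univ,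
    ← Nat.card_eq_fintype_card, nsmul_sub, hm]
  have h3 : ∑ c : H, z (g * c) = ∑ c : H, z c :=
    Fintype.sum_equiv (Equiv.mulLeft g) _ _ (fun _ => rfl)
  rw [h3]
  abel

omit [AddCommGroup V] in
theorem card_lt_sq [Finite V] [Nontrivial V] : Nat.card V < Nat.card V ^ 2 := by
  have h1 : 1 < Nat.card V := Finite.one_lt_card
  nlinarith

/-- `p'`-groups -/
theorem small_of_coprime [Finite H] [Finite V] [Nontrivial V] {p : ℕ} (hp : p.Prime) (hV : ∀ v : V, p • v = 0)
    (hH : ¬ p ∣ Nat.card H) : Small H V := by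
  let F : V → {z : H → V // ∀ g h : H, z (g * h) = z g + g • z h} := fun u => ⟨fun h => u - h • u, isDer_inner u⟩
  have hF : Function.Surjective F := by
    intro z
    obtain ⟨u, hu⟩ := exists_inner hp hV hH z.2
    exact ⟨u, Subtype.ext (funext fun g => (hu g).symm)⟩
  exact lt_of_le_of_lt (Nat.card_le_card_of_surjective F hF) card_lt_sq

end

/-! ### restriction -/

section

variable {H K V : Type*} [Group H] [Group K] [AddCommGroup V] [DistribMulAction H V] [DistribMulAction K V]

theorem small_of_map [Finite K] [Finite V] (φ : K →* H) (hφ : ∀ (k : K) (v : V), φ k • v = k • v)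
    (h0 : ∀ z : H → V, IsDer z → (∀ k : K, z (φ k) = 0) → ∀ g, z g = 0) (hK : Small K V) : Small H V := by
  let F : {z : H → V // ∀ g h : H, z (g * h) = z g + g • z h} →
      {z : K → V // ∀ g h : K, z (g * h) = z g + g • z h} := fun z =>
    ⟨fun k => z.1 (φ k), fun g h => by
      show z.1 (φ (g * h)) = z.1 (φ g) + g • z.1 (φ h)
      rw [map_mul, z.2, hφ]⟩
  have hF : Function.Injective F := by
    intro z z' h
    have h1 : IsDer (fun g => z.1 g - z'.1 g) := IsDer.sub z.2 z'.2
    have h2 := h0 _ h1 (fun k => sub_eq_zero.2 (congrFun (congrArg Subtype.val h) k))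
    exact Subtype.ext (funext fun g => sub_eq_zero.1 (h2 g))
  exact lt_of_le_of_lt (Nat.card_le_card_of_injective F hF) hK

/-- restriction to a normal image without nonzero fixed vectors -/
theorem small_of_map_normal [Finite K] [Finite V] (φ : K →* H) (hφ : ∀ (k : K) (v : V), φ k • v = k • v)
    (hn : ∀ (g : H) (k : K), ∃ k' : K, φ k * g = g * φ k') (hfix : ∀ v : V, (∀ k : K, k • v = v) → v = 0)
    (hK : Small K V) : Small H V := by
  refine small_of_map φ hφ ?_ hK
  intro z hz h0 g
  refine hfix _ fun k => ?_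
  obtain ⟨k', hk'⟩ := hn g k
  have h1 := hz (φ k) g
  have h2 := hz g (φ k')
  rw [h0, zero_add, hφ] at h1
  rw [h0, smul_zero, add_zero] at h2
  rw [← h1, hk', h2]

/-- restriction to an image of index prime to `p`, without nonzero fixed vectors -/
theorem small_of_map_index [Finite H] [Finite K] [Finite V] {p : ℕ} (hp : p.Prime) (hV : ∀ v : V, p • v = 0)
    (φ : K →* H) (hφ : ∀ (k : K) (v : V), φ k • v = k • v)
    (hidx : ¬ p ∣ φ.range.index) (hfix : ∀ v : V, (∀ k : K, k • v = v) → v = 0)
    (hK : Small K V) : Small H V := by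
  classical
  refine small_of_map φ hφ ?_ hK
  intro z hz hz0
  let _ := Fintype.ofFinite (H ⧸ φ.range)
  obtain ⟨m, hm⟩ := Aff.exists_inv_nsmul hp hV hidx
  have hc : ∀ g b : H, b ∈ φ.range → z (g * b) = z g := by
    rintro g _ ⟨k, rfl⟩
    rw [hz, hz0, smul_zero, add_zero]
  let f : H ⧸ φ.range → V := fun q => Quotient.liftOn' q z (by
    intro g g' h
    rw [QuotientGroup.leftRel_apply] at h
    have := hc g _ h
    rw [mul_inv_cancel_left] at this
    exact this.symm)
  have hcard : Fintype.card (H ⧸ φ.range) = φ.range.index := by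
    rw [← Nat.card_eq_fintype_card]
    rfl
  set S : V := ∑ q : H ⧸ φ.range, f q with hS
  have key : ∀ g : H, g • S = S - φ.range.index • z g := by
    intro g
    rw [hS, Finset.smul_sum]
    have h2 : ∀ q : H ⧸ φ.range, g • f q = f (g • q) - z g := by
      intro q
      induction q using Quotient.inductionOn' with
      | h x =>
        show g • z x = z (g * x) - z g
        rw [hz]
        abel
    rw [Finset.sum_congr rfl (fun q _ => h2 q), Finset.sum_sub_distrib, Finset.sum_const, Finset.card_univ, hcard]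
    congr 1
    exact Fintype.sum_equiv (MulAction.toPerm g) _ _ (fun _ => rfl)
  have hS0 : S = 0 := by
    refine hfix S fun k => ?_
    have := key (φ k)
    rwa [hz0, nsmul_zero, sub_zero, hφ] at this
  intro g
  have h3 := key g
  rw [hS0, smul_zero, zero_sub] at h3
  have h4 : φ.range.index • z g = 0 := by
    rw [← neg_eq_zero]
    exact h3.symm
  rw [← hm (z g), h4, nsmul_zero]

theorem small_of_normal [Finite H] [Finite V] (B : Subgroup H) [hB : B.Normal]
    (hfix : ∀ v : V, (∀ k ∈ B, k • v = v) → v = 0) (h : Small B V) : Small H V := by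
  refine small_of_map_normal B.subtype (fun _ _ => rfl) ?_ (fun v hv => hfix v fun k hk => hv ⟨k, hk⟩) h
  intro g k
  refine ⟨⟨g⁻¹ * k * g, by simpa using hB.conj_mem k k.2 g⁻¹⟩, ?_⟩
  simp only [coe_subtype]
  group

theorem small_of_index [Finite H] [Finite V] {p : ℕ} (hp : p.Prime) (hV : ∀ v : V, p • v = 0) (B : Subgroup H)
    (hidx : ¬ p ∣ B.index) (hfix : ∀ v : V, (∀ k ∈ B, k • v = v) → v = 0) (h : Small B V) : Small H V := by
  refine small_of_map_index hp hV B.subtype (fun _ _ => rfl) (by rwa [B.range_subtype]) 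
    (fun v hv => hfix v fun k hk => hv ⟨k, hk⟩) h

end

/-- transport -/
theorem small_congr {H K V W : Type*} [Group H] [Group K] [AddCommGroup V] [AddCommGroup W] [DistribMulAction H V]
    [DistribMulAction K W] (φ : H ≃* K) (e : V ≃+ W) (h : ∀ (g : H) (v : V), e (g • v) = φ g • e v) (hs : Small H V) :
    Small K W := by
  unfold H891.Gen.Small at *
  have h1 : Nat.card {z : K → W // ∀ g h : K, z (g * h) = z g + g • z h} =
      Nat.card {z : H → V // ∀ g h : H, z (g * h) = z g + g • z h} := by
    refine Nat.card_congr ⟨fun z => ⟨fun g => e.symm (z.1 (φ g)), fun g g' => ?_⟩,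
      fun z => ⟨fun g => e (z.1 (φ.symm g)), fun g g' => ?_⟩, fun z => ?_, fun z => ?_⟩
    · apply e.injective
      simp only [map_mul, z.2, map_add, AddEquiv.apply_symm_apply, h]
    · show e (z.1 (φ.symm (g * g'))) = _
      rw [map_mul, z.2, map_add, h, MulEquiv.apply_symm_apply]
    · apply Subtype.ext
      funext g
      simp
    · apply Subtype.ext
      funext g
      simp
  rw [h1, ← Nat.card_congr e.toEquiv]
  exact hs

end Cfsg.Agent.H490.Der
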