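import Cfsg.Agent.H891.Gen.Defs

/-!
# TEAM GEN piece A, tools (helper490)

Derivations `H → V` of a group `H` of additive permutations.

* `Z1 H` : the derivations, `Small H` : there are fewer than `|V| ^ 2` of them;
* `Small.affGood` : `H` is 2-generated and `Small H` give `AffGood H`;  `AffGood.small` : converse;
* `Small.of_pair`, `Small.of_norm` : `H = ⟨a, b⟩` and some pair `(v, w)` is not hit / `∑ a ^ i v ≠ 0`;
* `Small.of_coprime` : `|C|` prime to `p`;
* `Small.of_normal` : `B` normalised by `H`, `C_V(B) = 0`;  `Small.of_index` : `|H : B|` prime to `p`, `C_V(B) = 0`;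
* `AffGood.of_norm`, `AffGood.of_coprime`.
-/

set_option autoImplicit false

namespace Cfsg.Agent.H490.Aff

open Cfsg.Agent.H440.TwoGen Cfsg.Agent.H891.Gen Subgroup

universe u v

variable {V : Type u} [AddCommGroup V]

/-- derivations of `H` -/
def Z1 (H : Subgroup (Equiv.Perm V)) : Type u :=
  {z : ↥H → V // ∀ g h : ↥H, z (g * h) = z g + (g : Equiv.Perm V) (z h)}

/-- fewer than `|V| ^ 2` derivations -/
def Small (H : Subgroup (Equiv.Perm V)) : Prop := Nat.card (Z1 H) < Nat.card V ^ 2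

/-- the elements of `H` are additive -/
def Additive' (H : Subgroup (Equiv.Perm V)) : Prop := ∀ h ∈ H, ∀ v w : V, h (v + w) = h v + h w

theorem Additive'.mono {B H : Subgroup (Equiv.Perm V)} (hBH : B ≤ H) (hH : Additive' H) : Additive' B :=
  fun h hh => hH h (hBH hh)

instance instFiniteZ1 [Finite V] (H : Subgroup (Equiv.Perm V)) : Finite (Z1 H) := by
  unfold Z1
  infer_instance

section Basic

variable {H : Subgroup (Equiv.Perm V)}

theorem Z1.one (z : Z1 H) : z.1 1 = 0 := by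
  have h := z.2 1 1
  simp only [mul_one, OneMemClass.coe_one, Equiv.Perm.coe_one, id_eq] at h
  exact (add_eq_left.1 h.symm)

theorem Z1.inv (z : Z1 H) (g : ↥H) : z.1 g⁻¹ = - ((g⁻¹ : ↥H) : Equiv.Perm V) (z.1 g) := by
  have h := z.2 g⁻¹ g
  rw [inv_mul_cancel, z.one] at h
  exact eq_neg_of_add_eq_zero_left h.symm

/-- a derivation is determined by its values on generators -/
theorem Z1.ext_closure {S : Set (Equiv.Perm V)} (hS : closure S = H) (z z' : Z1 H)
    (h : ∀ s : ↥H, (s : Equiv.Perm V) ∈ S → z.1 s = z'.1 s) : z = z' := by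
  have key : ∀ g (hg : g ∈ closure S), z.1 ⟨g, hS ▸ hg⟩ = z'.1 ⟨g, hS ▸ hg⟩ := by
    intro g hg
    induction hg using Subgroup.closure_induction with
    | mem x hx => exact h ⟨x, _⟩ hx
    | one =>
      have h1 : (⟨1, hS ▸ (closure S).one_mem⟩ : ↥H) = 1 := rfl
      rw [h1, z.one, z'.one]
    | mul x y hx hy ihx ihy =>
      have h1 : (⟨x * y, hS ▸ mul_mem hx hy⟩ : ↥H) = ⟨x, hS ▸ hx⟩ * ⟨y, hS ▸ hy⟩ := rfl
      rw [h1, z.2, z'.2, ihx, ihy]
    | inv x hx ihx =>
      have h1 : (⟨x⁻¹, hS ▸ inv_mem hx⟩ : ↥H) = (⟨x, hS ▸ hx⟩ : ↥H)⁻¹ := rfl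
      rw [h1, z.inv, z'.inv, ihx]
  apply Subtype.ext
  funext g
  exact key g (hS ▸ g.2)

/-- restriction of derivations -/
def Z1.res {B : Subgroup (Equiv.Perm V)} (hBH : B ≤ H) (z : Z1 H) : Z1 B :=
  ⟨fun b => z.1 ⟨b, hBH b.2⟩, fun g h => z.2 ⟨g, hBH g.2⟩ ⟨h, hBH h.2⟩⟩

theorem add_neg' (hH : Additive' H) {h : Equiv.Perm V} (hh : h ∈ H) (v : V) : h (-v) = - h v := by
  have h0 : h 0 = 0 := by
    have := hH h hh 0 0
    rw [add_zero] at this
    exact add_eq_left.1 this.symm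
  have := hH h hh (-v) v
  rw [neg_add_cancel, h0] at this
  exact eq_neg_of_add_eq_zero_left this.symm

theorem add_zero' (hH : Additive' H) {h : Equiv.Perm V} (hh : h ∈ H) : h 0 = 0 := by
  have := hH h hh 0 0
  rw [add_zero] at this
  exact add_eq_left.1 this.symm

theorem add_sub' (hH : Additive' H) {h : Equiv.Perm V} (hh : h ∈ H) (v w : V) : h (v - w) = h v - h w := by
  rw [sub_eq_add_neg, hH h hh, add_neg' hH hh, ← sub_eq_add_neg]

theorem add_sum' (hH : Additive' H) {h : Equiv.Perm V} (hh : h ∈ H) {ι : Type*} (s : Finset ι) (f : ι → V) :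
    h (∑ i ∈ s, f i) = ∑ i ∈ s, h (f i) := by
  classical
  induction s using Finset.induction_on with
  | empty => simpa using add_zero' hH hh
  | insert i s hi ih => rw [Finset.sum_insert hi, hH h hh, ih, Finset.sum_insert hi]

/-- difference of derivations -/
def Z1.sub (hH : Additive' H) (z z' : Z1 H) : Z1 H :=
  ⟨fun h => z.1 h - z'.1 h, fun g h => by
    show z.1 (g * h) - z'.1 (g * h) = (z.1 g - z'.1 g) + (g : Equiv.Perm V) (z.1 h - z'.1 h)
    rw [z.2, z'.2, add_sub' hH g.2, add_sub_add_comm]⟩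

/-- inner derivations -/
def Z1.inner (hH : Additive' H) (u : V) : Z1 H :=
  ⟨fun h => u - (h : Equiv.Perm V) u, fun g h => by
    show u - (g * h : Equiv.Perm V) u = u - (g : Equiv.Perm V) u + (g : Equiv.Perm V) (u - (h : Equiv.Perm V) u)
    rw [add_sub' hH g.2, Equiv.Perm.mul_apply]
    abel⟩

theorem Z1.eq_of_sub {hH : Additive' H} {z z' : Z1 H} (h : ∀ g : ↥H, (Z1.sub hH z z').1 g = 0) : z = z' := by
  apply Subtype.ext
  funext g
  exact sub_eq_zero.1 (h g)

end Basic

/-! ### `AffGood` and `Small` -/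

theorem Small.affGood [Finite V] {H : Subgroup (Equiv.Perm V)} (hs : Small H) {a b : Equiv.Perm V}
    (hab : closure ({a, b} : Set (Equiv.Perm V)) = H) : AffGood H := by
  refine ⟨a, b, hab, ?_⟩
  by_contra hne
  push Not at hne
  choose z hz ha hb using hne
  have haH : a ∈ H := hab ▸ subset_closure (by simp)
  have hbH : b ∈ H := hab ▸ subset_closure (by simp)
  let F : V × V → Z1 H := fun p => ⟨fun h => z p.1 p.2 h, fun g h => hz p.1 p.2 g g.2 h h.2⟩
  have hF : Function.Injective F := by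
    rintro ⟨v, w⟩ ⟨v', w'⟩ h
    have h1 : ∀ g : ↥H, z v w g = z v' w' g := fun g => congrFun (congrArg Subtype.val h) g
    have h2 := h1 ⟨a, haH⟩
    have h3 := h1 ⟨b, hbH⟩
    simp only at h2 h3
    rw [ha, ha] at h2
    rw [hb, hb] at h3
    rw [h2, h3]
  have h4 := Nat.card_le_card_of_injective F hF
  rw [Nat.card_prod, ← sq] at h4
  unfold Small at hs
  omega

/-- the extension of a derivation by zero -/
theorem exists_ext {H : Subgroup (Equiv.Perm V)} (z : Z1 H) :
    ∃ z' : Equiv.Perm V → V, (∀ g ∈ H, ∀ h ∈ H, z' (g * h) = z' g + g (z' h)) ∧ ∀ g : ↥H, z' g = z.1 g := by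
  classical
  refine ⟨fun g => if hg : g ∈ H then z.1 ⟨g, hg⟩ else 0, ?_, ?_⟩
  · intro g hg h hh
    simp only [hg, hh, mul_mem hg hh, dif_pos]
    exact z.2 ⟨g, hg⟩ ⟨h, hh⟩
  · intro g
    simp

theorem Small.of_pair [Finite V] {H : Subgroup (Equiv.Perm V)} {a b : Equiv.Perm V}
    (hab : closure ({a, b} : Set (Equiv.Perm V)) = H)
    (h : ∃ v w : V, ¬ ∃ z : Equiv.Perm V → V, (∀ g ∈ H, ∀ h ∈ H, z (g * h) = z g + g (z h)) ∧ z a = v ∧ z b = w) :
    Small H := by
  obtain ⟨v, w, hvw⟩ := h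
  have haH : a ∈ H := hab ▸ subset_closure (by simp)
  have hbH : b ∈ H := hab ▸ subset_closure (by simp)
  let F : Z1 H → V × V := fun z => (z.1 ⟨a, haH⟩, z.1 ⟨b, hbH⟩)
  have hF : Function.Injective F := by
    intro z z' h
    simp only [F, Prod.mk.injEq] at h
    refine Z1.ext_closure hab z z' ?_
    rintro ⟨s, hs⟩ hs'
    rcases hs' with hs' | hs'
    · simp only at hs'
      subst hs'
      exact h.1
    · simp only [Set.mem_singleton_iff] at hs'
      subst hs'
      exact h.2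
  have hF' : ¬ Function.Surjective F := by
    intro hsur
    obtain ⟨z, hz⟩ := hsur (v, w)
    obtain ⟨z', hz', hzz⟩ := exists_ext z
    simp only [F, Prod.mk.injEq] at hz
    refine hvw ⟨z', hz', ?_, ?_⟩
    · rw [← hz.1]
      exact hzz ⟨a, haH⟩
    · rw [← hz.2]
      exact hzz ⟨b, hbH⟩
  have h5 : Nat.card (Z1 H) < Nat.card (V × V) := by
    refine lt_of_le_of_ne (Nat.card_le_card_of_injective F hF) ?_
    intro h6
    exact hF' ((Nat.bijective_iff_injective_and_card F).2 ⟨hF, h6⟩).2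
  rw [Nat.card_prod, ← sq] at h5
  exact h5

theorem AffGood.small [Finite V] {H : Subgroup (Equiv.Perm V)} (h : AffGood H) : Small H := by
  obtain ⟨a, b, hab, h⟩ := h
  exact Small.of_pair hab h

/-! ### the norm -/

theorem Z1.pow {H : Subgroup (Equiv.Perm V)} (z : Z1 H) (a : ↥H) (n : ℕ) :
    z.1 (a ^ n) = ∑ i ∈ Finset.range n, ((a : Equiv.Perm V) ^ i) (z.1 a) := by
  induction n with
  | zero => simpa using z.one
  | succ n ih =>
    rw [pow_succ, z.2, ih, Finset.sum_range_succ]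
    rfl

/-- `z a` is in the kernel of the norm of `a` -/
theorem Z1.norm_eq_zero {H : Subgroup (Equiv.Perm V)} (z : Z1 H) (a : ↥H) {n : ℕ}
    (hn : (a : Equiv.Perm V) ^ n = 1) : ∑ i ∈ Finset.range n, ((a : Equiv.Perm V) ^ i) (z.1 a) = 0 := by
  rw [← z.pow, show a ^ n = 1 from Subtype.ext (by simpa using hn), z.one]

theorem Small.of_norm [Finite V] {H : Subgroup (Equiv.Perm V)} {a b : Equiv.Perm V}
    (hab : closure ({a, b} : Set (Equiv.Perm V)) = H) {n : ℕ} (hn : a ^ n = 1) {v : V}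
    (hv : ∑ i ∈ Finset.range n, (a ^ i) v ≠ 0) : Small H := by
  refine Small.of_pair hab ⟨v, 0, ?_⟩
  rintro ⟨z, hz, hza, -⟩
  have haH : a ∈ H := hab ▸ subset_closure (by simp)
  have := Z1.norm_eq_zero ⟨fun h => z h, fun g h => hz g g.2 h h.2⟩ ⟨a, haH⟩ hn
  simp only [hza] at this
  exact hv this

theorem AffGood.of_norm [Finite V] {H : Subgroup (Equiv.Perm V)} {a b : Equiv.Perm V}
    (hab : closure ({a, b} : Set (Equiv.Perm V)) = H) {n : ℕ} (hn : a ^ n = 1) {v : V}
    (hv : ∑ i ∈ Finset.range n, (a ^ i) v ≠ 0) : AffGood H :=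
  (Small.of_norm hab hn hv).affGood hab

/-- an element of order prime to `p` with a nonzero fixed vector has nonzero norm -/
theorem Small.of_fixed [Finite V] {p : ℕ} (hp : p.Prime) (hV : ∀ v : V, p • v = 0)
    {H : Subgroup (Equiv.Perm V)} {a b : Equiv.Perm V}
    (hab : closure ({a, b} : Set (Equiv.Perm V)) = H) {n : ℕ} (hn : a ^ n = 1) (hpn : ¬ p ∣ n) {v : V}
    (hv : v ≠ 0) (hav : a v = v) : Small H := by
  refine Small.of_norm hab hn (v := v) ?_
  have h1 : ∀ i : ℕ, (a ^ i) v = v := by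
    intro i
    induction i with
    | zero => rfl
    | succ i ih => rw [pow_succ, Equiv.Perm.mul_apply, hav, ih]
  rw [Finset.sum_congr rfl (fun i _ => h1 i), Finset.sum_const, Finset.card_range]
  intro h2
  apply hv
  have h3 : addOrderOf v ∣ n := addOrderOf_dvd_of_nsmul_eq_zero h2
  have h4 : addOrderOf v ∣ p := addOrderOf_dvd_of_nsmul_eq_zero (hV v)
  rcases (Nat.dvd_prime hp).1 h4 with h5 | h5
  · exact AddMonoid.addOrderOf_eq_one_iff.1 h5
  · exact absurd (h5 ▸ h3) hpn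

/-- an involution acting nontrivially on an elementary abelian 2-group has nonzero norm -/
theorem Small.of_involution [Finite V] (hV : ∀ v : V, 2 • v = 0)
    {H : Subgroup (Equiv.Perm V)} {a b : Equiv.Perm V}
    (hab : closure ({a, b} : Set (Equiv.Perm V)) = H) (ha : a ^ 2 = 1) (ha' : a ≠ 1) : Small H := by
  obtain ⟨v, hv⟩ : ∃ v, a v ≠ v := by
    by_contra hne
    push Not at hne
    exact ha' (Equiv.ext hne)
  refine Small.of_norm hab ha (v := v) ?_
  rw [Finset.sum_range_succ, Finset.sum_range_one, pow_zero, pow_one, Equiv.Perm.one_apply]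
  intro h
  apply hv
  have h2 := hV v
  rw [two_nsmul] at h2
  exact (add_left_cancel (h.trans h2.symm))

/-! ### coprime groups -/

theorem card_lt_sq [Finite V] (hne : ∃ v : V, v ≠ 0) : Nat.card V < Nat.card V ^ 2 := by
  obtain ⟨v, hv⟩ := hne
  have : Nontrivial V := ⟨v, 0, hv⟩
  have h1 : 1 < Nat.card V := Finite.one_lt_card
  nlinarith

theorem exists_inv_nsmul {p : ℕ} (hp : p.Prime) (hV : ∀ v : V, p • v = 0) {n : ℕ} (hn : ¬ p ∣ n) :
    ∃ m : ℕ, ∀ v : V, m • (n • v) = v := by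
  have h1 : n.Coprime p := (Nat.Prime.coprime_iff_not_dvd hp).2 hn |>.symm
  obtain ⟨m, hm⟩ := Nat.exists_mul_mod_eq_one_of_coprime h1 hp.one_lt
  refine ⟨m, fun v => ?_⟩
  rw [← mul_nsmul', mul_comm]
  have h2 : n * m = n * m % p + p * (n * m / p) := (Nat.mod_add_div _ _).symm
  rw [h2, hm.2, add_nsmul, one_nsmul, mul_nsmul, hV, nsmul_zero, add_zero]

theorem Z1.inner_surjective [Finite V] {p : ℕ} (hp : p.Prime) (hV : ∀ v : V, p • v = 0)
    {C : Subgroup (Equiv.Perm V)} (hC : Additive' C) (hCp : ¬ p ∣ Nat.card C) :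
    Function.Surjective (Z1.inner hC : V → Z1 C) := by
  classical
  intro z
  have : Finite ↥C := inferInstance
  let _ := Fintype.ofFinite ↥C
  obtain ⟨m, hm⟩ := exists_inv_nsmul hp hV hCp
  refine ⟨m • ∑ c : ↥C, z.1 c, ?_⟩
  apply Subtype.ext
  funext g
  show m • ∑ c : ↥C, z.1 c - (g : Equiv.Perm V) (m • ∑ c : ↥C, z.1 c) = z.1 g
  have h1 : (g : Equiv.Perm V) (m • ∑ c : ↥C, z.1 c) = m • ∑ c : ↥C, (g : Equiv.Perm V) (z.1 c) := by
    rw [← add_sum' hC g.2, ← Finset.card_range m, ← Finset.sum_const, add_sum' hC g.2, Finset.sum_const,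
      Finset.card_range]
  rw [h1]
  have h2 : ∀ c : ↥C, (g : Equiv.Perm V) (z.1 c) = z.1 (g * c) - z.1 g := by
    intro c
    rw [z.2]
    abel
  rw [Finset.sum_congr rfl (fun c _ => h2 c), Finset.sum_sub_distrib, Finset.sum_const, Finset.card_univ,
    ← Nat.card_eq_fintype_card, nsmul_sub, hm]
  have h3 : ∑ c : ↥C, z.1 (g * c) = ∑ c : ↥C, z.1 c :=
    Fintype.sum_equiv (Equiv.mulLeft g) _ _ (fun _ => rfl)
  rw [h3]
  abel

/-- `p'`-groups -/
theorem Small.of_coprime [Finite V] {p : ℕ} (hp : p.Prime) (hV : ∀ v : V, p • v = 0) (hne : ∃ v : V, v ≠ 0)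
    {C : Subgroup (Equiv.Perm V)} (hC : Additive' C) (hCp : ¬ p ∣ Nat.card C) : Small C := by
  unfold Small
  exact lt_of_le_of_lt (Nat.card_le_card_of_surjective _ (Z1.inner_surjective hp hV hC hCp)) (card_lt_sq hne)

/-! ### restriction to subgroups -/

theorem Small.of_res [Finite V] {B H : Subgroup (Equiv.Perm V)} (hBH : B ≤ H)
    (hinj : Function.Injective (Z1.res hBH)) (hB : Small B) : Small H :=
  lt_of_le_of_lt (Nat.card_le_card_of_injective _ hinj) hB

theorem Z1.res_injective {B H : Subgroup (Equiv.Perm V)} (hH : Additive' H) (hBH : B ≤ H)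
    (h0 : ∀ z : Z1 H, (∀ b (hb : b ∈ B), z.1 ⟨b, hBH hb⟩ = 0) → ∀ g : ↥H, z.1 g = 0) :
    Function.Injective (Z1.res hBH) := by
  intro z z' h
  refine Z1.eq_of_sub (hH := hH) (h0 _ ?_)
  intro b hb
  have := congrFun (congrArg Subtype.val h) ⟨b, hb⟩
  exact sub_eq_zero.2 this

/-- restriction to a subgroup normalised by `H` and without nonzero fixed vectors -/
theorem Small.of_normal [Finite V] {B H : Subgroup (Equiv.Perm V)} (hH : Additive' H) (hBH : B ≤ H)
    (hn : ∀ h ∈ H, ∀ b ∈ B, h⁻¹ * b * h ∈ B) (hfix : ∀ v : V, (∀ b ∈ B, b v = v) → v = 0) (hB : Small B) :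
    Small H := by
  refine Small.of_res hBH (Z1.res_injective hH hBH ?_) hB
  intro z hz g
  refine hfix _ ?_
  intro b hb
  have h1 := z.2 ⟨b, hBH hb⟩ g
  have h2 := z.2 g ⟨g.1⁻¹ * b * g.1, hBH (hn g.1 g.2 b hb)⟩
  have h3 : (⟨b, hBH hb⟩ : ↥H) * g = g * ⟨g.1⁻¹ * b * g.1, hBH (hn g.1 g.2 b hb)⟩ := by
    apply Subtype.ext
    show b * g.1 = g.1 * (g.1⁻¹ * b * g.1)
    group
  rw [hz b hb, zero_add] at h1
  rw [hz _ (hn g.1 g.2 b hb), add_zero' hH g.2, add_zero] at h2
  rw [← h1, h3, h2]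

/-- restriction to a subgroup of index prime to `p` and without nonzero fixed vectors -/
theorem Small.of_index [Finite V] {p : ℕ} (hp : p.Prime) (hV : ∀ v : V, p • v = 0)
    {B H : Subgroup (Equiv.Perm V)} (hH : Additive' H) (hBH : B ≤ H) (hidx : ¬ p ∣ B.relIndex H)
    (hfix : ∀ v : V, (∀ b ∈ B, b v = v) → v = 0) (hB : Small B) : Small H := by
  classical
  refine Small.of_res hBH (Z1.res_injective hH hBH ?_) hB
  intro z hz
  have : Finite ↥H := inferInstance
  let _ := Fintype.ofFinite (↥H ⧸ B.subgroupOf H)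
  obtain ⟨m, hm⟩ := exists_inv_nsmul hp hV hidx
  -- `z` is constant on left cosets of `B`
  have hc : ∀ g b : ↥H, b ∈ B.subgroupOf H → z.1 (g * b) = z.1 g := by
    intro g b hb
    rw [z.2]
    have : z.1 b = 0 := hz b (mem_subgroupOf.1 hb)
    rw [this, add_zero' hH g.2, add_zero]
  let f : ↥H ⧸ B.subgroupOf H → V := fun q => Quotient.liftOn' q z.1 (by
    intro g g' h
    rw [QuotientGroup.leftRel_apply] at h
    have := hc g _ h
    rw [mul_inv_cancel_left] at this
    exact this.symm)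
  have hf : ∀ g : ↥H, f (g : ↥H ⧸ B.subgroupOf H) = z.1 g := fun g => rfl
  have hcard : Fintype.card (↥H ⧸ B.subgroupOf H) = B.relIndex H := by
    rw [← Nat.card_eq_fintype_card]
    rfl
  set S : V := ∑ q : ↥H ⧸ B.subgroupOf H, f q with hS
  -- every `g ∈ H` moves the sum by `|H : B| • z g`
  have key : ∀ g : ↥H, (g : Equiv.Perm V) S = S - B.relIndex H • z.1 g := by
    intro g
    rw [hS, add_sum' hH g.2]
    have h2 : ∀ q : ↥H ⧸ B.subgroupOf H, (g : Equiv.Perm V) (f q) = f (g • q) - z.1 g := by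
      intro q
      induction q using Quotient.inductionOn' with
      | h x =>
        show (g : Equiv.Perm V) (z.1 x) = z.1 (g * x) - z.1 g
        rw [z.2]
        abel
    rw [Finset.sum_congr rfl (fun q _ => h2 q), Finset.sum_sub_distrib, Finset.sum_const, Finset.card_univ, hcard]
    congr 1
    exact Fintype.sum_equiv (MulAction.toPerm g) _ _ (fun _ => rfl)
  -- so `S` is fixed by `B`
  have hS0 : S = 0 := by
    refine hfix S ?_
    intro b hb
    have := key ⟨b, hBH hb⟩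
    rw [hz b hb, nsmul_zero, sub_zero] at this
    exact this
  intro g
  have h3 := key g
  rw [hS0, add_zero' hH g.2, zero_sub] at h3
  have h4 : B.relIndex H • z.1 g = 0 := by
    rw [← neg_eq_zero]
    exact h3.symm
  rw [← hm (z.1 g), h4, nsmul_zero]

/-- `H` has a normal `p'`-subgroup without nonzero fixed vectors -/
theorem AffGood.of_coprime [Finite V] {p : ℕ} (hp : p.Prime) (hV : ∀ v : V, p • v = 0) (hne : ∃ v : V, v ≠ 0)
    {C H : Subgroup (Equiv.Perm V)} (hH : Additive' H) (hCH : C ≤ H)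
    (hn : ∀ h ∈ H, ∀ b ∈ C, h⁻¹ * b * h ∈ C) (hfix : ∀ v : V, (∀ b ∈ C, b v = v) → v = 0)
    (hCp : ¬ p ∣ Nat.card C) {a b : Equiv.Perm V} (hab : closure ({a, b} : Set (Equiv.Perm V)) = H) : AffGood H :=
  (Small.of_normal hH hCH hn hfix (Small.of_coprime hp hV hne (hH.mono hCH) hCp)).affGood hab

end Cfsg.Agent.H490.Aff
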