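import Cfsg.Agent.H70.OutCount
import Cfsg.Agent.H135.TwoGenTab

/-!
# The automorphisms of `G₂(2 ^ k)` (helper490)

`aut_eq` : every automorphism of `G₂(F)`, `F` finite of characteristic two with at least four elements, is an inner
automorphism times a field automorphism.
-/

set_option autoImplicit false

namespace Cfsg.Agent.H490.G2

open scoped Pointwise
open Cfsg Cfsg.Lie Cfsg.Agent.ChevalleyStructure.Elts Cfsg.Agent.Schreier.ChevLocal
open Cfsg.Agent.H70.ChevFix Cfsg.Agent.H70.ChevField Cfsg.Agent.H70.OutCount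

universe u

theorem hD : InList chevG2 := by simp

variable {F : Type u} [Field F]

/-- The Chevalley group `G₂(F)` -/
abbrev K (F : Type u) [Field F] : Type u := ↥(chevG2.group F)

/-- the values of a field automorphism -/
def IsField (α : MulAut (K F)) (τ : F ≃+* F) : Prop := ∀ r < 12, ∀ t : F, α (xe hD r t) = xe hD r (τ t)

theorem exists_isField (τ : F ≃+* F) : ∃ α : MulAut (K F), IsField α τ := exists_fieldAut hD τ

theorem s0 : chevG2.simple 0 = 7 := by decide +kernel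
theorem s1 : chevG2.simple 1 = 6 := by decide +kernel
theorem n0 : chevG2.neg 7 = 4 := by decide +kernel
theorem n1 : chevG2.neg 6 = 5 := by decide +kernel
theorem c07 : chevG2.cartan 0 7 = 2 := by decide +kernel
theorem c06 : chevG2.cartan 0 6 = -3 := by decide +kernel
theorem c17 : chevG2.cartan 1 7 = -1 := by decide +kernel
theorem c16 : chevG2.cartan 1 6 = 2 := by decide +kernel
theorem c04 : chevG2.cartan 0 4 = -2 := by decide +kernel
theorem c05 : chevG2.cartan 0 5 = 3 := by decide +kernel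
theorem c14 : chevG2.cartan 1 4 = 1 := by decide +kernel
theorem c15 : chevG2.cartan 1 5 = -2 := by decide +kernel

theorem exists_torus {c d : F} (hc : c ≠ 0) (hd : d ≠ 0) : ∃ h : K F,
    (∀ t : F, h * xe hD 7 t * h⁻¹ = xe hD 7 (c * t)) ∧ (∀ t : F, h * xe hD 6 t * h⁻¹ = xe hD 6 (d * t)) ∧
    (∀ t : F, h * xe hD 4 t * h⁻¹ = xe hD 4 (c⁻¹ * t)) ∧ (∀ t : F, h * xe hD 5 t * h⁻¹ = xe hD 5 (d⁻¹ * t)) := by
  have key : ∀ (a b : F) (_ : a ≠ 0) (_ : b ≠ 0) (s : ℕ), s < 12 → ∀ t : F,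
      (he hD (chevG2.simple 0) a * he hD (chevG2.simple 1) b) * xe hD s t *
        (he hD (chevG2.simple 0) a * he hD (chevG2.simple 1) b)⁻¹ =
      xe hD s (a ^ chevG2.cartan 0 s * b ^ chevG2.cartan 1 s * t) := by
    intro a b ha hb s hs t
    calc _ = he hD (chevG2.simple 0) a * (he hD (chevG2.simple 1) b * xe hD s t * (he hD (chevG2.simple 1) b)⁻¹) *
          (he hD (chevG2.simple 0) a)⁻¹ := by group
      _ = _ := by
        rw [he_conj hD (by decide : 1 < chevG2.rank) hs hb, he_conj hD (by decide : 0 < chevG2.rank) hs ha, mul_assoc]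
  -- a = c^2 d, b = c^3 d^2
  have ha : c ^ 2 * d ≠ 0 := mul_ne_zero (pow_ne_zero _ hc) hd
  have hb : c ^ 3 * d ^ 2 ≠ 0 := mul_ne_zero (pow_ne_zero _ hc) (pow_ne_zero _ hd)
  refine ⟨he hD (chevG2.simple 0) (c ^ 2 * d) * he hD (chevG2.simple 1) (c ^ 3 * d ^ 2), ?_, ?_, ?_, ?_⟩
  · intro t
    rw [key _ _ ha hb 7 (by norm_num), c07, c17]
    congr 1
    rw [zpow_neg_one, zpow_ofNat]
    field_simp
  · intro t
    rw [key _ _ ha hb 6 (by norm_num), c06, c16]
    congr 1
    rw [zpow_neg, zpow_ofNat, zpow_ofNat]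
    field_simp
  · intro t
    rw [key _ _ ha hb 4 (by norm_num), c04, c14]
    congr 1
    rw [zpow_neg, zpow_ofNat, zpow_one]
    field_simp
  · intro t
    rw [key _ _ ha hb 5 (by norm_num), c05, c15]
    congr 1
    rw [zpow_neg, zpow_ofNat, zpow_ofNat]
    field_simp

/-- In characteristic two the permutation of the nodes is trivial. -/
theorem perm_eq_one [Finite F] [CharP F 2] (hq : ∃ x : F, x ≠ 0 ∧ x ≠ 1) {φ : MulAut (K F)}
    {π : Equiv.Perm (Fin chevG2.rank)} (h : Perm chevG2 F φ π) : π = 1 := by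
  obtain ⟨c, σ, hc, -, -, h4⟩ := exists_field hD h
  have hr : chevG2.rank = 2 := rfl
  by_contra hne
  have e : ∀ i : Fin chevG2.rank, i = (0 : Fin 2) ∨ i = (1 : Fin 2) := by
    intro i
    have : ∀ i : Fin 2, i = 0 ∨ i = 1 := by decide
    exact this i
  have hπ0 : π (0 : Fin 2) = (1 : Fin 2) := by
    rcases e (π (0 : Fin 2)) with h0 | h0
    · exfalso
      apply hne
      ext i
      rcases e i with rfl | rfl
      · rw [h0]; rfl
      · rcases e (π (1 : Fin 2)) with h1 | h1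
        · have := π.injective (h0.trans h1.symm)
          exact absurd this (by decide : (0 : Fin 2) ≠ 1)
        · rw [h1]; rfl
    · exact h0
  have hπ1 : π (1 : Fin 2) = (0 : Fin 2) := by
    rcases e (π (1 : Fin 2)) with h0 | h0
    · exact h0
    · have := π.injective (hπ0.trans h0.symm)
      exact absurd this (by decide : (0 : Fin 2) ≠ 1)
  have key : ∀ a : F, a ≠ 0 → σ (0 : Fin 2) a = (σ (1 : Fin 2) a) ^ 3 := by
    intro a ha
    have h5 := h4 (1 : Fin 2) (0 : Fin 2) a ha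
    rw [hπ0, hπ1] at h5
    have e1 : chevG2.cartan ((1 : Fin 2) : ℕ) (chevG2.simple ((0 : Fin 2) : ℕ)) = -1 := by decide +kernel
    have e2 : chevG2.cartan ((0 : Fin 2) : ℕ) (chevG2.simple ((1 : Fin 2) : ℕ)) = -3 := by decide +kernel
    have h6 : σ (0 : Fin 2) (a ^ (-1 : ℤ)) = σ (1 : Fin 2) a ^ (-3 : ℤ) := by
      rw [← e1, ← e2]
      exact h5
    rw [zpow_neg_one, map_inv₀, zpow_neg, inv_inj] at h6
    exact_mod_cast h6
  obtain ⟨x, hx0, hx1⟩ := hq
  have h2 : (2 : F) = 0 := CharTwo.two_eq_zero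
  have hy : ∀ b : F, b ≠ 0 → σ (0 : Fin 2) ((σ (1 : Fin 2)).symm b) = b ^ 3 := by
    intro b hb
    rw [key _ (by simpa using hb), RingEquiv.apply_symm_apply]
  have hx2 : x + 1 ≠ 0 := fun h0 => hx1 (by linear_combination h0 - h2)
  have h7 := hy (x + 1) hx2
  rw [map_add, map_add, hy x hx0, hy 1 one_ne_zero] at h7
  have h8 : x * (x + 1) = 0 := by linear_combination -h7 - x * (x + 1) * h2
  rcases mul_eq_zero.1 h8 with h9 | h9
  · exact hx0 h9
  · exact hx2 h9

/-- **The automorphisms of `G₂(2 ^ k)`.** -/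
theorem aut_eq [Finite F] [CharP F 2] (hq : ∃ x : F, x ≠ 0 ∧ x ≠ 1) (ψ : MulAut (K F)) :
    ∃ (g : K F) (τ : F ≃+* F) (α : MulAut (K F)), IsField α τ ∧ ψ = MulAut.conj g * α := by
  obtain ⟨x, π, -, -, h1, h2⟩ := exists_conj_perm (F := F) hD ψ
  have hφ : Perm chevG2 F (MulAut.conj x * ψ) π := ⟨h1, h2⟩
  have hπ := perm_eq_one hq hφ
  subst hπ
  obtain ⟨c, σ, hc, h3, h4, h5⟩ := exists_field hD hφ
  obtain ⟨τ, hτ⟩ := sigma_eq hD (σ := σ) h5
  obtain ⟨α, hα⟩ := exists_isField τ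
  obtain ⟨h, k1, k2, k3, k4⟩ := exists_torus (hc (0 : Fin 2)) (hc (1 : Fin 2))
  have key : MulAut.conj x * ψ = MulAut.conj h * α := by
    have e : ∀ i : Fin chevG2.rank, i = (0 : Fin 2) ∨ i = (1 : Fin 2) := by
      intro i
      have : ∀ i : Fin 2, i = 0 ∨ i = 1 := by decide
      exact this i
    apply ext_values hD
    · intro i t
      rw [h3, hτ, MulAut.mul_apply, MulAut.conj_apply]
      rcases e i with rfl | rfl
      · show xe hD (chevG2.simple 0) _ = h * α (xe hD (chevG2.simple 0) t) * h⁻¹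
        rw [s0, hα 7 (by norm_num), k1]
      · show xe hD (chevG2.simple 1) _ = h * α (xe hD (chevG2.simple 1) t) * h⁻¹
        rw [s1, hα 6 (by norm_num), k2]
    · intro i t
      rw [h4, hτ, MulAut.mul_apply, MulAut.conj_apply]
      rcases e i with rfl | rfl
      · show xe hD (chevG2.neg (chevG2.simple 0)) _ = h * α (xe hD (chevG2.neg (chevG2.simple 0)) t) * h⁻¹
        rw [s0, n0, hα 4 (by norm_num), k3]
      · show xe hD (chevG2.neg (chevG2.simple 1)) _ = h * α (xe hD (chevG2.neg (chevG2.simple 1)) t) * h⁻¹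
        rw [s1, n1, hα 5 (by norm_num), k4]
  refine ⟨x⁻¹ * h, τ, α, hα, ?_⟩
  rw [map_mul, map_inv, mul_assoc, ← key, inv_mul_cancel_left]

end Cfsg.Agent.H490.G2
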