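import Cfsg.Agent.H494.Good
import Cfsg.Agent.H545.PQ.Sporadic
import Cfsg.Agent.H318.SixTwF
import Cfsg.Agent.TitsK.Inst
import Cfsg.Agent.TitsK.SheetT
import Cfsg.Agent.FourTwo.Perf

/-!
# The sporadic rows and the Tits row of the theorem on groups without elements of order `2p` (helper490)

`sporadic`, `tits` : `Good.Row p K` for the sporadic groups and the Tits group.
-/

set_option autoImplicit false

namespace Cfsg.Agent.H490.NoTwoPSpor

open Subgroup Cfsg Cfsg.Agent.H494.Good Cfsg.Agent.H545.PQ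

theorem twoP_of_pair {K : Type*} [Group K] {p : ℕ} (hp : p.Prime) (hp2 : p ≠ 2) (h : Pair 2 p K) : TwoP p K := by
  obtain ⟨x, y, hx, hy, hxy⟩ := h
  exact TwoP.of_commute hp hp2 hx hy hxy

theorem row_of {K : Type*} [Group K] [Finite K] (h : IsSporadicGroup K) {n : ℕ} (hn : Nat.card K = n)
    (ps bad : List ℕ) (hps : ∀ q ∈ ps, q.Prime) (hd : n ∣ ps.prod ^ 50) (hchk : Chk n ps bad = true)
    {p : ℕ} (hp : p.Prime) (hp2 : p ≠ 2) (hpair : p ∈ bad → Row p K) : Row p K := by
  by_cases hb : p ∈ bad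
  · exact hpair hb
  · refine Or.inr (Or.inr ⟨Ab.of_not_dvd hp ?_, OutFix.of_card (hp.odd_of_ne_two hp2) ?_⟩)
    · rw [hn]
      exact not_cube ps hps hd hchk hp hb
    · have h2 := H498.SporOut.index_le_two h
      have hf : Finite (MulAut K) := inferInstance
      have h0 : (MulAut.conj : K →* MulAut K).range.index ≠ 0 := index_ne_zero_of_finite
      exact dvd_two_of_le dvd_rfl h2 h0

theorem m11 {K : Type*} [Group K] [Finite K] (h : Spor.IsoM11 K) {p : ℕ} (hp : p.Prime) (hp2 : p ≠ 2) : Row p K := by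
  refine row_of (by unfold IsSporadicGroup; tauto) (NotCT.Orders.m11 h) [2, 3, 5, 11]
    [2] (by simp only [List.forall_mem_cons]; norm_num) (by decide +kernel) (by decide +kernel) hp hp2 ?_
  intro hb
  simp only [List.mem_cons, List.not_mem_nil, or_false] at hb
  exact absurd hb hp2

theorem m12 {K : Type*} [Group K] [Finite K] (h : Spor.IsoM12 K) {p : ℕ} (hp : p.Prime) (hp2 : p ≠ 2) : Row p K := by
  refine row_of (by unfold IsSporadicGroup; tauto) (NotCT.Orders.m12 h) [2, 3, 5, 11]
    [2, 3] (by simp only [List.forall_mem_cons]; norm_num) (by decide +kernel) (by decide +kernel) hp hp2 ?_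
  intro hb
  simp only [List.mem_cons, List.not_mem_nil, or_false] at hb
  rcases hb with hb | rfl
  · exact absurd hb hp2
  · obtain ⟨e⟩ := h
    exact Or.inl (twoP_of_pair hp hp2 (Mathieu.m12.equiv e))

theorem m22 {K : Type*} [Group K] [Finite K] (h : Spor.IsoM22 K) {p : ℕ} (hp : p.Prime) (hp2 : p ≠ 2) : Row p K := by
  refine row_of (by unfold IsSporadicGroup; tauto) (NotCT.Orders.m22 h) [2, 3, 5, 7, 11]
    [2] (by simp only [List.forall_mem_cons]; norm_num) (by decide +kernel) (by decide +kernel) hp hp2 ?_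
  intro hb
  simp only [List.mem_cons, List.not_mem_nil, or_false] at hb
  exact absurd hb hp2

theorem m23 {K : Type*} [Group K] [Finite K] (h : Spor.IsoM23 K) {p : ℕ} (hp : p.Prime) (hp2 : p ≠ 2) : Row p K := by
  refine row_of (by unfold IsSporadicGroup; tauto) (NotCT.Orders.m23 h) [2, 3, 5, 7, 11, 23]
    [2] (by simp only [List.forall_mem_cons]; norm_num) (by decide +kernel) (by decide +kernel) hp hp2 ?_
  intro hb
  simp only [List.mem_cons, List.not_mem_nil, or_false] at hb
  exact absurd hb hp2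

theorem m24 {K : Type*} [Group K] [Finite K] (h : Spor.IsoM24 K) {p : ℕ} (hp : p.Prime) (hp2 : p ≠ 2) : Row p K := by
  refine row_of (by unfold IsSporadicGroup; tauto) (NotCT.Orders.m24 h) [2, 3, 5, 7, 11, 23]
    [2, 3] (by simp only [List.forall_mem_cons]; norm_num) (by decide +kernel) (by decide +kernel) hp hp2 ?_
  intro hb
  simp only [List.mem_cons, List.not_mem_nil, or_false] at hb
  rcases hb with hb | rfl
  · exact absurd hb hp2
  · obtain ⟨e⟩ := h
    exact Or.inl (twoP_of_pair hp hp2 (Mathieu.m24.equiv e))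

theorem j1 {K : Type*} [Group K] [Finite K] (h : Spor.IsoJ1 K) {p : ℕ} (hp : p.Prime) (hp2 : p ≠ 2) : Row p K := by
  refine row_of (by unfold IsSporadicGroup; tauto) (NotCT.Orders.j1 h) [2, 3, 5, 7, 11, 19]
    [2] (by simp only [List.forall_mem_cons]; norm_num) (by decide +kernel) (by decide +kernel) hp hp2 ?_
  intro hb
  simp only [List.mem_cons, List.not_mem_nil, or_false] at hb
  exact absurd hb hp2

theorem j2 {K : Type*} [Group K] [Finite K] (h : Spor.IsoJ2 K) {p : ℕ} (hp : p.Prime) (hp2 : p ≠ 2) : Row p K := by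
  refine row_of (by unfold IsSporadicGroup; tauto) (NotCT.Orders.j2 h) [2, 3, 5, 7]
    [2, 3] (by simp only [List.forall_mem_cons]; norm_num) (by decide +kernel) (by decide +kernel) hp hp2 ?_
  intro hb
  simp only [List.mem_cons, List.not_mem_nil, or_false] at hb
  rcases hb with hb | rfl
  · exact absurd hb hp2
  · exact Or.inl (twoP_of_pair hp hp2 (JTwoThree.j2 h))

theorem j3 {K : Type*} [Group K] [Finite K] (h : Spor.IsoJ3 K) {p : ℕ} (hp : p.Prime) (hp2 : p ≠ 2) : Row p K := by
  refine row_of (by unfold IsSporadicGroup; tauto) (NotCT.Orders.j3 h) [2, 3, 5, 17, 19]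
    [2, 3] (by simp only [List.forall_mem_cons]; norm_num) (by decide +kernel) (by decide +kernel) hp hp2 ?_
  intro hb
  simp only [List.mem_cons, List.not_mem_nil, or_false] at hb
  rcases hb with hb | rfl
  · exact absurd hb hp2
  · exact Or.inl (twoP_of_pair hp hp2 (JTwoThree.j3 h))

theorem j4 {K : Type*} [Group K] [Finite K] (h : Spor.IsoJ4 K) {p : ℕ} (hp : p.Prime) (hp2 : p ≠ 2) : Row p K := by
  refine row_of (by unfold IsSporadicGroup; tauto) (NotCT.Orders.j4 h) [2, 3, 5, 7, 11, 23, 29, 31, 37, 43]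
    [2, 3, 11] (by simp only [List.forall_mem_cons]; norm_num) (by decide +kernel) (by decide +kernel) hp hp2 ?_
  intro hb
  simp only [List.mem_cons, List.not_mem_nil, or_false] at hb
  rcases hb with hb | rfl | rfl
  · exact absurd hb hp2
  · exact Or.inl (twoP_of_pair hp hp2 ((JFour.pairs h).1))
  · exact Or.inl (twoP_of_pair hp hp2 ((JFour.pairs h).2.1))

theorem co1 {K : Type*} [Group K] [Finite K] (h : Spor.IsoCo1 K) {p : ℕ} (hp : p.Prime) (hp2 : p ≠ 2) : Row p K := by
  refine row_of (by unfold IsSporadicGroup; tauto) (NotCT.Orders.co1 h) [2, 3, 5, 7, 11, 13, 23]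
    [2, 3, 5] (by simp only [List.forall_mem_cons]; norm_num) (by decide +kernel) (by decide +kernel) hp hp2 ?_
  intro hb
  simp only [List.mem_cons, List.not_mem_nil, or_false] at hb
  rcases hb with hb | rfl | rfl
  · exact absurd hb hp2
  · obtain ⟨e⟩ := h
    exact Or.inl (twoP_of_pair hp hp2 (Conway.co1.1.equiv e))
  · obtain ⟨e⟩ := h
    exact Or.inl (twoP_of_pair hp hp2 (Conway.co1.2.1.equiv e))

theorem co2 {K : Type*} [Group K] [Finite K] (h : Spor.IsoCo2 K) {p : ℕ} (hp : p.Prime) (hp2 : p ≠ 2) : Row p K := by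
  refine row_of (by unfold IsSporadicGroup; tauto) (NotCT.Orders.co2 h) [2, 3, 5, 7, 11, 23]
    [2, 3, 5] (by simp only [List.forall_mem_cons]; norm_num) (by decide +kernel) (by decide +kernel) hp hp2 ?_
  intro hb
  simp only [List.mem_cons, List.not_mem_nil, or_false] at hb
  rcases hb with hb | rfl | rfl
  · exact absurd hb hp2
  · obtain ⟨e⟩ := h
    exact Or.inl (twoP_of_pair hp hp2 (Conway.co2.1.equiv e))
  · obtain ⟨e⟩ := h
    exact Or.inl (twoP_of_pair hp hp2 (Conway.co2.2.1.equiv e))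

theorem co3 {K : Type*} [Group K] [Finite K] (h : Spor.IsoCo3 K) {p : ℕ} (hp : p.Prime) (hp2 : p ≠ 2) : Row p K := by
  refine row_of (by unfold IsSporadicGroup; tauto) (NotCT.Orders.co3 h) [2, 3, 5, 7, 11, 23]
    [2, 3, 5] (by simp only [List.forall_mem_cons]; norm_num) (by decide +kernel) (by decide +kernel) hp hp2 ?_
  intro hb
  simp only [List.mem_cons, List.not_mem_nil, or_false] at hb
  rcases hb with hb | rfl | rfl
  · exact absurd hb hp2
  · obtain ⟨e⟩ := h
    exact Or.inl (twoP_of_pair hp hp2 (Conway.co3.1.equiv e))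
  · obtain ⟨e⟩ := h
    exact Or.inl (twoP_of_pair hp hp2 (Conway.co3.2.1.equiv e))

theorem mcl {K : Type*} [Group K] [Finite K] (h : Spor.IsoMcL K) {p : ℕ} (hp : p.Prime) (hp2 : p ≠ 2) : Row p K := by
  refine row_of (by unfold IsSporadicGroup; tauto) (NotCT.Orders.mcl h) [2, 3, 5, 7, 11]
    [2, 3, 5] (by simp only [List.forall_mem_cons]; norm_num) (by decide +kernel) (by decide +kernel) hp hp2 ?_
  intro hb
  simp only [List.mem_cons, List.not_mem_nil, or_false] at hb
  rcases hb with hb | rfl | rfl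
  · exact absurd hb hp2
  · obtain ⟨e⟩ := h
    exact Or.inl (twoP_of_pair hp hp2 (Conway.mcl.1.equiv e))
  · obtain ⟨e⟩ := h
    exact Or.inl (twoP_of_pair hp hp2 (Conway.mcl.2.1.equiv e))

theorem hs {K : Type*} [Group K] [Finite K] (h : Spor.IsoHS K) {p : ℕ} (hp : p.Prime) (hp2 : p ≠ 2) : Row p K := by
  refine row_of (by unfold IsSporadicGroup; tauto) (NotCT.Orders.hs h) [2, 3, 5, 7, 11]
    [2, 5] (by simp only [List.forall_mem_cons]; norm_num) (by decide +kernel) (by decide +kernel) hp hp2 ?_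
  intro hb
  simp only [List.mem_cons, List.not_mem_nil, or_false] at hb
  rcases hb with hb | rfl
  · exact absurd hb hp2
  · exact Or.inl (twoP_of_pair hp hp2 (HigmanSims.pair_two_five h))

theorem suz {K : Type*} [Group K] [Finite K] (h : Spor.IsoSuz K) {p : ℕ} (hp : p.Prime) (hp2 : p ≠ 2) : Row p K := by
  refine row_of (by unfold IsSporadicGroup; tauto) (NotCT.Orders.suz h) [2, 3, 5, 7, 11, 13]
    [2, 3] (by simp only [List.forall_mem_cons]; norm_num) (by decide +kernel) (by decide +kernel) hp hp2 ?_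
  intro hb
  simp only [List.mem_cons, List.not_mem_nil, or_false] at hb
  rcases hb with hb | rfl
  · exact absurd hb hp2
  · exact Or.inl (twoP_of_pair hp hp2 (Suzuki.pair_two_three h))

theorem he {K : Type*} [Group K] [Finite K] (h : Spor.IsoHe K) {p : ℕ} (hp : p.Prime) (hp2 : p ≠ 2) : Row p K := by
  refine row_of (by unfold IsSporadicGroup; tauto) (NotCT.Orders.he h) [2, 3, 5, 7, 17]
    [2, 3, 7] (by simp only [List.forall_mem_cons]; norm_num) (by decide +kernel) (by decide +kernel) hp hp2 ?_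
  intro hb
  simp only [List.mem_cons, List.not_mem_nil, or_false] at hb
  rcases hb with hb | rfl | rfl
  · exact absurd hb hp2
  · obtain ⟨e⟩ := h
    exact Or.inl (twoP_of_pair hp hp2 (Held.pair_two_three.equiv e))
  · obtain ⟨e⟩ := h
    exact Or.inl (twoP_of_pair hp hp2 (Held.pair_two_seven.equiv e))

theorem ru {K : Type*} [Group K] [Finite K] (h : Spor.IsoRu K) {p : ℕ} (hp : p.Prime) (hp2 : p ≠ 2) : Row p K := by
  refine row_of (by unfold IsSporadicGroup; tauto) (NotCT.Orders.ru h) [2, 3, 5, 7, 13, 29]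
    [2, 3, 5] (by simp only [List.forall_mem_cons]; norm_num) (by decide +kernel) (by decide +kernel) hp hp2 ?_
  intro hb
  simp only [List.mem_cons, List.not_mem_nil, or_false] at hb
  rcases hb with hb | rfl | rfl
  · exact absurd hb hp2
  · exact Or.inl (twoP_of_pair hp hp2 ((Rudvalis.pairs h).1))
  · exact Or.inl (twoP_of_pair hp hp2 ((Rudvalis.pairs h).2.1))

/-- the prime three for the O'Nan group -/
theorem on_row_three {K : Type*} [Group K] [Finite K] (h : Spor.IsoON K) : Row 3 K := by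
  have : Fact (Nat.Prime 3) := ⟨Nat.prime_three⟩
  refine Or.inr (Or.inr ⟨?_, OutFix.of_card (by decide) ?_⟩)
  · obtain ⟨T⟩ : Nonempty (Sylow 3 K) := inferInstance
    refine Ab.of_sylow T (isMulCommutative_iff.2 fun a b => ?_)
    exact Subtype.ext (Sporadic.on_three h T a a.2 b b.2)
  · have h2 := H498.SporOut.index_le_two (S := K) (by unfold IsSporadicGroup; tauto)
    have hf : Finite (MulAut K) := inferInstance
    have h0 : (MulAut.conj : K →* MulAut K).range.index ≠ 0 := index_ne_zero_of_finite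
    exact dvd_two_of_le dvd_rfl h2 h0

theorem on {K : Type*} [Group K] [Finite K] (h : Spor.IsoON K) {p : ℕ} (hp : p.Prime) (hp2 : p ≠ 2) : Row p K := by
  refine row_of (by unfold IsSporadicGroup; tauto) (NotCT.Orders.on h) [2, 3, 5, 7, 11, 19, 31]
    [2, 3, 7] (by simp only [List.forall_mem_cons]; norm_num) (by decide +kernel) (by decide +kernel) hp hp2 ?_
  intro hb
  simp only [List.mem_cons, List.not_mem_nil, or_false] at hb
  rcases hb with hb | rfl | rfl
  · exact absurd hb hp2
  · exact on_row_three h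
  · obtain ⟨e⟩ := h
    exact Or.inl (twoP_of_pair hp hp2 (ONan.pair_two_seven.equiv e))

theorem ly {K : Type*} [Group K] [Finite K] (h : Spor.IsoLy K) {p : ℕ} (hp : p.Prime) (hp2 : p ≠ 2) : Row p K := by
  refine row_of (by unfold IsSporadicGroup; tauto) (NotCT.Orders.ly h) [2, 3, 5, 7, 11, 31, 37, 67]
    [2, 3, 5] (by simp only [List.forall_mem_cons]; norm_num) (by decide +kernel) (by decide +kernel) hp hp2 ?_
  intro hb
  simp only [List.mem_cons, List.not_mem_nil, or_false] at hb
  rcases hb with hb | rfl | rfl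
  · exact absurd hb hp2
  · obtain ⟨e⟩ := h
    exact Or.inl (twoP_of_pair hp hp2 (Lyons.pairs.1.equiv e))
  · obtain ⟨e⟩ := h
    exact Or.inl (twoP_of_pair hp hp2 (Lyons.pairs.2.1.equiv e))

theorem fi22 {K : Type*} [Group K] [Finite K] (h : Spor.IsoFi22 K) {p : ℕ} (hp : p.Prime) (hp2 : p ≠ 2) : Row p K := by
  refine row_of (by unfold IsSporadicGroup; tauto) (NotCT.Orders.fi22 h) [2, 3, 5, 7, 11, 13]
    [2, 3] (by simp only [List.forall_mem_cons]; norm_num) (by decide +kernel) (by decide +kernel) hp hp2 ?_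
  intro hb
  simp only [List.mem_cons, List.not_mem_nil, or_false] at hb
  rcases hb with hb | rfl
  · exact absurd hb hp2
  · exact Or.inl (twoP_of_pair hp hp2 (FischerA.pair_two_three h))

theorem fi23 {K : Type*} [Group K] [Finite K] (h : Spor.IsoFi23 K) {p : ℕ} (hp : p.Prime) (hp2 : p ≠ 2) : Row p K := by
  refine row_of (by unfold IsSporadicGroup; tauto) (NotCT.Orders.fi23 h) [2, 3, 5, 7, 11, 13, 17, 23]
    [2, 3] (by simp only [List.forall_mem_cons]; norm_num) (by decide +kernel) (by decide +kernel) hp hp2 ?_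
  intro hb
  simp only [List.mem_cons, List.not_mem_nil, or_false] at hb
  rcases hb with hb | rfl
  · exact absurd hb hp2
  · exact Or.inl (twoP_of_pair hp hp2 (FischerB.pair_two_three h))

theorem fi24 {K : Type*} [Group K] [Finite K] (h : Spor.IsoFi24' K) {p : ℕ} (hp : p.Prime) (hp2 : p ≠ 2) : Row p K := by
  refine row_of (by unfold IsSporadicGroup; tauto) (NotCT.Orders.fi24 h) [2, 3, 5, 7, 11, 13, 17, 23, 29]
    [2, 3, 7] (by simp only [List.forall_mem_cons]; norm_num) (by decide +kernel) (by decide +kernel) hp hp2 ?_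
  intro hb
  simp only [List.mem_cons, List.not_mem_nil, or_false] at hb
  rcases hb with hb | rfl | rfl
  · exact absurd hb hp2
  · obtain ⟨e⟩ := h
    exact Or.inl (twoP_of_pair hp hp2 (FischerC.pair_two_three.equiv e))
  · obtain ⟨e⟩ := h
    exact Or.inl (twoP_of_pair hp hp2 (FischerC.pair_two_seven.equiv e))

theorem hn {K : Type*} [Group K] [Finite K] (h : Spor.IsoHN K) {p : ℕ} (hp : p.Prime) (hp2 : p ≠ 2) : Row p K := by
  refine row_of (by unfold IsSporadicGroup; tauto) (NotCT.Orders.hn h) [2, 3, 5, 7, 11, 19]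
    [2, 3, 5] (by simp only [List.forall_mem_cons]; norm_num) (by decide +kernel) (by decide +kernel) hp hp2 ?_
  intro hb
  simp only [List.mem_cons, List.not_mem_nil, or_false] at hb
  rcases hb with hb | rfl | rfl
  · exact absurd hb hp2
  · obtain ⟨e⟩ := h
    exact Or.inl (twoP_of_pair hp hp2 (HaradaNorton.pair_two_three.equiv e))
  · obtain ⟨e⟩ := h
    exact Or.inl (twoP_of_pair hp hp2 (HaradaNorton.pair_two_five.equiv e))

theorem th {K : Type*} [Group K] [Finite K] (h : Spor.IsoTh K) {p : ℕ} (hp : p.Prime) (hp2 : p ≠ 2) : Row p K := by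
  refine row_of (by unfold IsSporadicGroup; tauto) (NotCT.Orders.th h) [2, 3, 5, 7, 13, 19, 31]
    [2, 3, 5] (by simp only [List.forall_mem_cons]; norm_num) (by decide +kernel) (by decide +kernel) hp hp2 ?_
  intro hb
  simp only [List.mem_cons, List.not_mem_nil, or_false] at hb
  rcases hb with hb | rfl | rfl
  · exact absurd hb hp2
  · obtain ⟨e⟩ := h
    exact Or.inl (twoP_of_pair hp hp2 (Thompson.pair_two_three.equiv e))
  · obtain ⟨e⟩ := h
    exact Or.inl (twoP_of_pair hp hp2 (Thompson.pair_two_five.equiv e))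

theorem b {K : Type*} [Group K] [Finite K] (h : Spor.IsoB K) {p : ℕ} (hp : p.Prime) (hp2 : p ≠ 2) : Row p K := by
  refine row_of (by unfold IsSporadicGroup; tauto) (NotCT.Orders.b h) [2, 3, 5, 7, 11, 13, 17, 19, 23, 31, 47]
    [2, 3, 5] (by simp only [List.forall_mem_cons]; norm_num) (by decide +kernel) (by decide +kernel) hp hp2 ?_
  intro hb
  simp only [List.mem_cons, List.not_mem_nil, or_false] at hb
  rcases hb with hb | rfl | rfl
  · exact absurd hb hp2
  · obtain ⟨e⟩ := h
    exact Or.inl (twoP_of_pair hp hp2 (Baby.pairs.1.equiv e))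
  · obtain ⟨e⟩ := h
    exact Or.inl (twoP_of_pair hp hp2 (Baby.pairs.2.1.equiv e))

theorem m {K : Type*} [Group K] [Finite K] (h : Spor.IsoM K) {p : ℕ} (hp : p.Prime) (hp2 : p ≠ 2) : Row p K := by
  refine row_of (by unfold IsSporadicGroup; tauto) (NotCT.Orders.m h) [2, 3, 5, 7, 11, 13, 17, 19, 23, 29, 31, 41, 47, 59, 71]
    [2, 3, 5, 7, 13] (by simp only [List.forall_mem_cons]; norm_num) (by decide +kernel) (by decide +kernel) hp hp2 ?_
  intro hb
  simp only [List.mem_cons, List.not_mem_nil, or_false] at hb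
  rcases hb with hb | rfl | rfl | rfl | rfl
  · exact absurd hb hp2
  · obtain ⟨e⟩ := h
    exact Or.inl (twoP_of_pair hp hp2 ((Monster.pair_two (by norm_num) (by norm_num)).equiv e))
  · obtain ⟨e⟩ := h
    exact Or.inl (twoP_of_pair hp hp2 ((Monster.pair_two (by norm_num) (by norm_num)).equiv e))
  · obtain ⟨e⟩ := h
    exact Or.inl (twoP_of_pair hp hp2 ((Monster.pair_two (by norm_num) (by norm_num)).equiv e))
  · obtain ⟨e⟩ := h
    exact Or.inl (twoP_of_pair hp hp2 ((Monster.pair_two (by norm_num) (by norm_num)).equiv e))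

/-- **The sporadic rows.** -/
theorem sporadic {K : Type*} [Group K] [Finite K] (h : IsSporadicGroup K) {p : ℕ} (hp : p.Prime) (hp2 : p ≠ 2)
    (_hd : p ∣ Nat.card K) : Row p K := by
  rcases h with h | h | h | h | h | h | h | h | h | h | h | h | h | h | h | h | h | h |
      h | h | h | h | h | h | h | h
  · exact m11 h hp hp2
  · exact m12 h hp hp2
  · exact m22 h hp hp2
  · exact m23 h hp hp2
  · exact m24 h hp hp2
  · exact j1 h hp hp2
  · exact j2 h hp hp2
  · exact j3 h hp hp2
  · exact j4 h hp hp2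
  · exact co1 h hp hp2
  · exact co2 h hp hp2
  · exact co3 h hp hp2
  · exact mcl h hp hp2
  · exact hs h hp hp2
  · exact suz h hp hp2
  · exact he h hp hp2
  · exact ru h hp hp2
  · exact on h hp hp2
  · exact ly h hp hp2
  · exact fi22 h hp hp2
  · exact fi23 h hp hp2
  · exact fi24 h hp hp2
  · exact hn h hp hp2
  · exact th h hp hp2
  · exact b h hp hp2
  · exact m h hp hp2

/-- every automorphism of `L` has its square inner -/
def SqInner (L : Type*) [Group L] : Prop := ∀ x : MulAut L, x ^ 2 ∈ (MulAut.conj : L →* MulAut L).range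

theorem SqInner.of_index {L : Type*} [Group L] (h : (MulAut.conj : L →* MulAut L).range.index ∣ 2) : SqInner L := by
  have hn : ((MulAut.conj : L →* MulAut L).range).Normal := by
    refine ⟨?_⟩
    rintro _ ⟨k, rfl⟩ α
    refine ⟨α k, ?_⟩
    ext x
    simp [MulAut.conj_apply, MulAut.mul_apply]
  intro x
  obtain ⟨m, hm⟩ := h
  rw [hm, pow_mul]
  exact pow_mem (Subgroup.pow_index_mem _ x) m

theorem SqInner.congr {L M : Type*} [Group L] [Group M] (e : L ≃* M) (h : SqInner M) : SqInner L := by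
  intro α
  obtain ⟨y, hy⟩ := h (MulAut.congr e α)
  refine ⟨e.symm y, ?_⟩
  apply (MulAut.congr e).injective
  rw [map_pow, ← hy]
  ext x
  change e (e.symm y * e.symm x * (e.symm y)⁻¹) = y * x * y⁻¹
  simp

theorem tits_TT : SqInner ↥Cfsg.Agent.TitsK.TT := by
  have hfin : Finite Cfsg.Agent.FourTwo.Base.LL := Cfsg.Agent.FourTwo.Perf.instFiniteLL
  have h := Cfsg.Agent.TitsK.tdata.index_inn
  refine SqInner.of_index ?_
  refine dvd_trans ?_ h
  exact dvd_refl _

/-- **The row of the Tits group.** -/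
theorem tits {K : Type*} [Group K] [Finite K] (h : Lie.IsoTits K) {p : ℕ} (hp : p.Prime) (hp2 : p ≠ 2)
    (_hd : p ∣ Nat.card K) : Row p K := by
  by_cases hb : p ∈ [2, 3]
  · simp only [List.mem_cons, List.not_mem_nil, or_false] at hb
    rcases hb with hb | rfl
    · exact absurd hb hp2
    · obtain ⟨g, hg⟩ := (H318.six_tits h).exists_orderOf
      exact Or.inl ⟨g, hg⟩
  · refine Or.inr (Or.inr ⟨Ab.of_not_dvd hp ?_, OutFix.of_sq (hp.odd_of_ne_two hp2) ?_⟩)
    · rw [NotCT.Orders.tits h]
      exact not_cube [2, 3, 5, 13] (by simp only [List.forall_mem_cons]; norm_num) (by decide +kernel)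
        (by decide +kernel) hp hb
    · obtain ⟨e⟩ := h
      obtain ⟨e'⟩ := Cfsg.Agent.TitsK.exists_equiv
      exact SqInner.congr (M := ↥Cfsg.Agent.TitsK.TT) (e.trans e') tits_TT

end Cfsg.Agent.H490.NoTwoPSpor
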